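import Mathlib
import Cfsg.Agent.Lib.H34.MKit

/-!
# Rules for exact relators; certificate data with central letters of arbitrary order
-/

set_option autoImplicit false

namespace H34.MK

open Subgroup H35.Stem H35.TC H35.Net

section norm

variable {X P : Type} [Group P] [DecidableEq X]

/-- reduction with normalised signs of the involution letters -/
def nred (iv : X → Bool) (w : W X) : W X := red iv (w.map fun a => (a.1, a.2 || iv a.1))

theorem ev_nred {iv : X → Bool} {f : X → P} (hiv : ∀ x, iv x = true → f x * f x = 1) (w : W X) :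
    ev f (nred iv w) = ev f w := by
  rw [nred, ev_red hiv]
  induction w with
  | nil => rfl
  | cons a w ih =>
    rw [List.map_cons, ev_cons, ev_cons, ih]
    congr 1
    rcases a with ⟨x, b⟩
    cases h : iv x with
    | false => simp [el, h]
    | true =>
      have h3 : (f x)⁻¹ = f x := inv_eq_of_mul_eq_one_left (hiv x h)
      cases b <;> simp [el, h, h3]

/-- commutator word -/
def cmw {X : Type} (a b : W X) : W X := a ++ (b ++ (winv a ++ winv b))

theorem ev_cmw {X : Type} (f : X → P) (a b : W X) : ev f (cmw a b) = ev f a * ev f b * (ev f a)⁻¹ * (ev f b)⁻¹ := by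
  rw [cmw, ev_append, ev_append, ev_append, ev_winv, ev_winv, mul_assoc, mul_assoc]

/-- conjugate word -/
def cjw {X : Type} (h a : W X) : W X := h ++ (a ++ winv h)

theorem ev_cjw {X : Type} (f : X → P) (h a : W X) : ev f (cjw h a) = ev f h * ev f a * (ev f h)⁻¹ := by
  rw [cjw, ev_append, ev_append, ev_winv, mul_assoc]

/-- kinds of exact relators -/
inductive RR (X : Type)
  | given (w : W X)
  | low (w : W X)
  | ord (x : X)
  | cc (h a b a' b' : W X)
  | csq (a b : W X)
  | dih (a b : W X) (m : ℕ)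
  | dihx (a b : W X) (m : ℕ)
  | kp (w : W X)
  | cj (A : W X) (x1 : X × Bool) (k1 : ℕ) (x2 : X × Bool) (k2 : ℕ)

/-- the relator -/
def RR.word (q : ℕ) (n : X → ℕ) : RR X → W X
  | .given w => w
  | .low w => w
  | .ord x => rep [(x, true)] (n x)
  | .cc _ a b a' b' => cmw a b ++ winv (cmw a' b')
  | .csq a b => cmw a b ++ cmw a b
  | .dih a b m => rep (a ++ b) (2 * m)
  | .dihx a b m => rep (a ++ b) m
  | .kp w => rep w q
  | .cj A x1 k1 x2 k2 => cjw A (rep [x1] k1) ++ winv (rep [x2] k2)

/-- facts needed in the quotient -/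
def RR.needs : RR X → List (W X)
  | .given _ => []
  | .low w => [w]
  | .ord _ => []
  | .cc h a b a' b' => [cjw h a ++ winv a', cjw h b ++ winv b', cmw a b]
  | .csq a b => [cmw a b]
  | .dih a b m => [rep (a ++ b) m]
  | .dihx a b m => [rep (a ++ b) m]
  | .kp w => [w]
  | .cj A x1 k1 x2 k2 => [cjw A (rep [x1] k1) ++ winv (rep [x2] k2)]

/-- checked conditions; `G` is the list of given words, `S` the lower letters -/
def RR.ok (q : ℕ) (n : X → ℕ) (iv : X → Bool) (Gv : List (W X)) (S : X → Bool) : RR X → Bool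
  | .given w => decide (w ∈ Gv)
  | .low w => w.all fun a => S a.1
  | .ord x => !iv x
  | .cc _ _ _ _ _ => true
  | .csq a _ => decide (nred iv (a ++ a) = [])
  | .dih a b _ => decide (nred iv (a ++ a) = []) && decide (nred iv (b ++ b) = [])
  | .dihx a b _ => decide (nred iv (a ++ a) = []) && decide (nred iv (b ++ b) = []) && decide (q % 2 = 1)
  | .kp _ => true
  | .cj _ x1 _ x2 _ => (!iv x1.1 && !iv x2.1) && (decide (Nat.Coprime (n x1.1) q) && decide (Nat.Coprime (n x2.1) q))

/-- lifts with involution letters -/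
structure PL {X P G : Type} [Group P] [Group G] (π : P →* G) (q : ℕ) (n : X → ℕ) (iv : X → Bool) (g : X → G) (f : X → P) : Prop where
  cen : π.ker ≤ center P
  pow : ∀ z ∈ π.ker, z ^ q = 1
  lift : ∀ x, π (f x) = g x
  sq : ∀ x, iv x = true → f x * f x = 1
  ord : ∀ x, iv x = false → f x ^ n x = 1

variable {G : Type} [Group G] {π : P →* G} {q : ℕ} {n : X → ℕ} {iv : X → Bool} {g : X → G} {f : X → P}

omit [DecidableEq X] in
theorem PL.evl (h : PL π q n iv g f) (w : W X) : π (ev f w) = ev g w := by
  rw [ev_hom]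
  congr 1
  funext x
  exact h.lift x

omit [DecidableEq X] in
theorem PL.cent (h : PL π q n iv g f) {w : W X} (hw : ev g w = 1) (y : P) : ev f w * y = y * ev f w := by
  have h1 : ev f w ∈ π.ker := by rw [MonoidHom.mem_ker, h.evl, hw]
  exact (mem_center_iff.1 (h.cen h1) y).symm

theorem sq_of_nred (hiv : ∀ x, iv x = true → f x * f x = 1) {a : W X} (h : nred iv (a ++ a) = []) :
    ev f a * ev f a = 1 := by
  rw [← ev_append, ← ev_nred hiv, h, ev_nil]

/-- **exact relators hold** -/
theorem RR.holds (h : PL π q n iv g f) {Gv : List (W X)} (hG : ∀ w ∈ Gv, ev f w = 1) {S : X → Bool}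
    (hS : Inj g f S) {r : RR X} (hr : r.ok q n iv Gv S = true) (ht : ∀ w ∈ r.needs, ev g w = 1) :
    ev f (r.word q n) = 1 := by
  cases r with
  | given w => exact hG w (of_decide_eq_true hr)
  | low w => exact hS w hr (ht w (by simp [RR.needs]))
  | ord x =>
    change ev f (rep [(x, true)] (n x)) = 1
    rw [ev_rep]
    change (f x * 1) ^ n x = 1
    rw [mul_one]
    exact h.ord x (by simpa [RR.ok] using hr)
  | cc k a b a' b' =>
    have h1 := ht (cjw k a ++ winv a') (by simp [RR.needs])
    have h2 := ht (cjw k b ++ winv b') (by simp [RR.needs])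
    have h3 := ht (cmw a b) (by simp [RR.needs])
    rw [ev_append, ev_winv, mul_inv_eq_one, ev_cjw] at h1 h2
    rw [RR.word, ev_append, ev_winv, mul_inv_eq_one]
    have hc := h.cent h3
    have e1 : ev f (cmw a' b') = ev f k * ev f (cmw a b) * (ev f k)⁻¹ := by
      rw [ev_cmw, ev_cmw]
      have e2 := comm_same h.cen (x := ev f a') (y := ev f k * ev f a * (ev f k)⁻¹)
        (a := ev f b') (b := ev f k * ev f b * (ev f k)⁻¹)
        (by rw [map_mul, map_mul, map_inv, h.evl, h.evl, h.evl, h1]) (by rw [map_mul, map_mul, map_inv, h.evl, h.evl, h.evl, h2])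
      rw [e2]
      group
    rw [e1, ← hc, mul_inv_cancel_right]
  | csq a b =>
    have ha := sq_of_nred h.sq (of_decide_eq_true hr)
    have h3 := ht (cmw a b) (by simp [RR.needs])
    have hc := h.cent h3
    rw [RR.word, ev_append]
    set c := ev f (cmw a b) with hcd
    rw [ev_cmw] at hcd
    set A := ev f a
    set B := ev f b
    -- `A B A⁻¹ = c B`
    have h4 : A * B * A⁻¹ = c * B := by rw [hcd]; group
    have hA : A⁻¹ = A := inv_eq_of_mul_eq_one_left ha
    have h5 : A * (A * B * A⁻¹) * A⁻¹ = c * c * B := by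
      rw [h4]
      calc A * (c * B) * A⁻¹ = (A * c) * B * A⁻¹ := by group
        _ = c * (A * B * A⁻¹) := by rw [← hc]; group
        _ = c * c * B := by rw [h4]; group
    have h6 : A * (A * B * A⁻¹) * A⁻¹ = B := by
      calc A * (A * B * A⁻¹) * A⁻¹ = (A * A) * B * (A * A)⁻¹ := by group
        _ = B := by rw [ha]; group
    rw [h6] at h5
    exact (mul_eq_right.1 h5.symm)
  | dih a b m =>
    rw [RR.ok, Bool.and_eq_true] at hr
    have ha := sq_of_nred h.sq (of_decide_eq_true hr.1)
    have hb := sq_of_nred h.sq (of_decide_eq_true hr.2)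
    have h3 := ht (rep (a ++ b) m) (by simp [RR.needs])
    have hc := h.cent h3
    rw [RR.word, ev_rep, mul_comm 2 m, pow_mul, pow_two]
    rw [ev_rep] at hc
    set A := ev f a
    set B := ev f b
    have hA : A⁻¹ = A := inv_eq_of_mul_eq_one_left ha
    have hB : B⁻¹ = B := inv_eq_of_mul_eq_one_left hb
    have e0 : ev f (a ++ b) = A * B := ev_append _ _ _
    rw [e0] at hc ⊢
    have h4 : A * (A * B) * A⁻¹ = (A * B)⁻¹ := by
      rw [mul_inv_rev, hA, hB, ← mul_assoc, ha, one_mul]
    have h5 : A * (A * B) ^ m * A⁻¹ = ((A * B) ^ m)⁻¹ := by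
      rw [← conj_pow, h4, inv_pow]
    rw [← hc, mul_inv_cancel_right] at h5
    nth_rewrite 1 [h5]
    rw [inv_mul_cancel]
  | dihx a b m =>
    rw [RR.ok, Bool.and_eq_true, Bool.and_eq_true, decide_eq_true_eq, decide_eq_true_eq, decide_eq_true_eq] at hr
    have ha := sq_of_nred h.sq hr.1.1
    have hb := sq_of_nred h.sq hr.1.2
    have h3 := ht (rep (a ++ b) m) (by simp [RR.needs])
    rw [RR.word, ev_rep, ev_append]
    rw [ev_rep, ev_append, ← h.evl, ← h.evl] at h3
    refine dihedral_exact h.cen h.pow ?_ ha hb h3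
    rw [Nat.coprime_two_left]
    exact Nat.odd_iff.2 hr.2
  | kp w =>
    change ev f (rep w q) = 1
    rw [ev_rep]
    refine h.pow _ ?_
    rw [MonoidHom.mem_ker, h.evl]
    exact ht w (by simp [RR.needs])
  | cj A x1 k1 x2 k2 =>
    rw [RR.ok, Bool.and_eq_true, Bool.and_eq_true, Bool.and_eq_true, decide_eq_true_eq, decide_eq_true_eq] at hr
    obtain ⟨⟨hi1, hi2⟩, hn1, hn2⟩ := hr
    have h3 := ht (cjw A (rep [x1] k1) ++ winv (rep [x2] k2)) (by simp [RR.needs])
    rw [ev_append, ev_winv, mul_inv_eq_one, ev_cjw] at h3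
    change ev f (cjw A (rep [x1] k1) ++ winv (rep [x2] k2)) = 1
    rw [ev_append, ev_winv, mul_inv_eq_one, ev_cjw]
    have key : ∀ (x : X × Bool) (k : ℕ), iv x.1 = false → (ev f (rep [x] k)) ^ n x.1 = 1 := by
      intro x k hx
      have h4 : (el f x) ^ n x.1 = 1 := by
        rcases x with ⟨x, b⟩
        cases b
        · change ((f x)⁻¹) ^ n x = 1
          rw [inv_pow, h.ord x hx, inv_one]
        · exact h.ord x hx
      rw [ev_rep, ev_cons, ev_nil, mul_one, ← pow_mul, mul_comm, pow_mul, h4, one_pow]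
    have k1' := key x1 k1 (by simpa using hi1)
    have k2' := key x2 k2 (by simpa using hi2)
    refine conj_exact h.cen h.pow (n := n x1.1 * n x2.1) (Nat.Coprime.mul_left hn1 hn2) ?_ ?_ ?_
    · rw [h.evl, h.evl, h.evl, h3]
    · rw [pow_mul, k1', one_pow]
    · rw [mul_comm, pow_mul, k2', one_pow]

end norm

section chk

variable {X L : Type} [DecidableEq X] [DecidableEq L]

/-- certificate data: involution letters, words of the certificate letters, central letters, exact relators -/
structure CQ (X L : Type) where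
  iv : X → Bool
  wd : L → W X
  cen : L → Bool
  exact : List (W X)

/-- word known to be trivial -/
def CQ.tr (C : CQ X L) (w : W X) : Bool :=
  match nred C.iv w with
  | [] => true
  | a :: t => decide ((a :: t) ∈ C.exact) || decide (nred C.iv (winv (a :: t)) ∈ C.exact)

/-- a commutator pattern with a central letter -/
def CQ.comm (C : CQ X L) (inv : L → L) (p : List L × ℕ) : Bool :=
  match p with
  | ([x, y, x', y'], 1) => decide (x' = inv x) && decide (y' = inv y) && (C.cen x || C.cen y)
  | ([x, y], 2) => C.tr (C.wd x ++ C.wd x) && C.tr (C.wd y ++ C.wd y) && (C.cen x || C.cen y)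
  | _ => false

/-- the checked relation `p.1 ^ p.2 = 1` -/
def CQ.ok (C : CQ X L) (inv : L → L) (p : List L × ℕ) : Bool :=
  decide (p.2 = 0) || C.comm inv p || C.tr (rep (p.1.flatMap C.wd) p.2)

/-- checked inverse letter -/
def CQ.okinv (C : CQ X L) (inv : L → L) (x : L) : Bool := C.tr (C.wd (inv x) ++ C.wd x)

variable {P : Type} [Group P]

/-- the elements `f` satisfy the conditions -/
structure CQ.Holds (C : CQ X L) (f : X → P) : Prop where
  iv : ∀ x, C.iv x = true → f x * f x = 1
  cen : ∀ z, C.cen z = true → ∀ y : P, ev f (C.wd z) * y = y * ev f (C.wd z)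
  exact : ∀ w ∈ C.exact, ev f w = 1

omit [DecidableEq L] in
theorem CQ.tr_spec {C : CQ X L} {f : X → P} (h : C.Holds f) {w : W X} (hw : C.tr w = true) : ev f w = 1 := by
  unfold CQ.tr at hw
  rw [← ev_nred h.iv]
  split at hw
  · rename_i h1
    rw [h1, ev_nil]
  · rename_i a t h1
    rw [h1]
    rw [Bool.or_eq_true, decide_eq_true_eq, decide_eq_true_eq] at hw
    rcases hw with hw | hw
    · exact h.exact _ hw
    · have h2 := h.exact _ hw
      rw [ev_nred h.iv, ev_winv, inv_eq_one] at h2
      exact h2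

omit [DecidableEq L] in
theorem CQ.okinv_spec {C : CQ X L} {f : X → P} (h : C.Holds f) {inv : L → L} {x : L} (hx : C.okinv inv x = true) :
    ev f (C.wd (inv x)) = (ev f (C.wd x))⁻¹ := by
  refine eq_inv_of_mul_eq_one_left ?_
  rw [← ev_append]
  exact CQ.tr_spec h hx

theorem CQ.comm_spec {C : CQ X L} {f : X → P} (h : C.Holds f) {inv : L → L}
    (hinv : ∀ x, ev f (C.wd (inv x)) = (ev f (C.wd x))⁻¹) {p : List L × ℕ} (hp : C.comm inv p = true) :
    ((p.1.map fun x => ev f (C.wd x)).prod) ^ p.2 = 1 := by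
  unfold CQ.comm at hp
  split at hp
  · rename_i x y x' y'
    simp only [Bool.and_eq_true, Bool.or_eq_true, decide_eq_true_eq] at hp
    obtain ⟨⟨rfl, rfl⟩, h3⟩ := hp
    simp only [List.map_cons, List.map_nil, List.prod_cons, List.prod_nil, mul_one, pow_one, hinv]
    have hc : ev f (C.wd x) * ev f (C.wd y) = ev f (C.wd y) * ev f (C.wd x) := by
      rcases h3 with h3 | h3
      · exact h.cen x h3 _
      · exact (h.cen y h3 _).symm
    rw [← mul_assoc, hc]
    group
  · rename_i x y
    simp only [Bool.and_eq_true, Bool.or_eq_true] at hp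
    obtain ⟨⟨h1, h2⟩, h3⟩ := hp
    simp only [List.map_cons, List.map_nil, List.prod_cons, List.prod_nil, mul_one]
    have hc : ev f (C.wd x) * ev f (C.wd y) = ev f (C.wd y) * ev f (C.wd x) := by
      rcases h3 with h3 | h3
      · exact h.cen x h3 _
      · exact (h.cen y h3 _).symm
    have hcc : Commute (ev f (C.wd x)) (ev f (C.wd y)) := hc
    have e1 := CQ.tr_spec h h1
    have e2 := CQ.tr_spec h h2
    rw [ev_append] at e1 e2
    rw [hcc.mul_pow, pow_two, pow_two, e1, e2, one_mul]
  · exact absurd hp (by simp)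

theorem CQ.ok_spec {C : CQ X L} {f : X → P} (h : C.Holds f) {inv : L → L}
    (hinv : ∀ x, ev f (C.wd (inv x)) = (ev f (C.wd x))⁻¹) {p : List L × ℕ} (hp : C.ok inv p = true) :
    ((p.1.map fun x => ev f (C.wd x)).prod) ^ p.2 = 1 := by
  unfold CQ.ok at hp
  simp only [Bool.or_eq_true, decide_eq_true_eq] at hp
  rcases hp with (h1 | h1) | h1
  · rw [h1, pow_zero]
  · exact CQ.comm_spec h hinv h1
  · rw [← ev_flatMap, ← ev_rep]
    exact CQ.tr_spec h h1

/-- **relations of a certificate** -/
theorem CQ.relOK {C : CQ X L} {f : X → P} (h : C.Holds f) {inv : L → L} {mm : L → L → ℕ} {ex : List (List L × ℕ)}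
    (h1 : ∀ x, C.okinv inv x = true) (h2 : ∀ x y, C.ok inv ([x, y], mm x y) = true)
    (h3 : ex.all (fun p => C.ok inv p) = true) :
    (∀ x, ev f (C.wd (inv x)) = (ev f (C.wd x))⁻¹) ∧ RelOK mm ex (fun x => ev f (C.wd x)) := by
  have hinv : ∀ x, ev f (C.wd (inv x)) = (ev f (C.wd x))⁻¹ := fun x => CQ.okinv_spec h (h1 x)
  refine ⟨hinv, ?_, ?_⟩
  · intro x y
    have := CQ.ok_spec h hinv (h2 x y)
    simpa using this
  · intro p hp
    exact CQ.ok_spec h hinv (List.all_eq_true.1 h3 p hp)

end chk

end H34.MK
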