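import Mathlib
import Cfsg.Agent.Lib.H34.Sp6M
import Cfsg.Agent.Lib.H34.MCov
import Cfsg.Agent.Lib.H34.TCS6A
import Cfsg.Agent.Lib.H34.TCS6B
import Cfsg.Agent.Lib.H34.TCS6C
/-! # The Schur multiplier of `Sp₆(2)` -/

set_option autoImplicit false
set_option maxRecDepth 100000
set_option linter.all false

namespace H34.MulSp6
open Subgroup H35.Stem H35.TC H34.MK H40.PermCode H34.Sp6

abbrev X := Fin 7
def nn : X → ℕ := fun _ => 2
def iv : X → Bool := fun _ => true
def tr' : X → Bool := ![false, true, true, true, true, true, true]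
def par : X → X := ![0, 0, 1, 2, 1, 4, 5]
def uw : X → W X := ![[], [(0, true), (1, true)], [(1, true), (2, true)], [(2, true), (3, true)], [(1, true), (4, true)], [(4, true), (5, true)], [(5, true), (6, true)]]
def Gv : List (W X) := [tword par uw 1, tword par uw 2, tword par uw 3, tword par uw 4, tword par uw 5, tword par uw 6]

/-- letters of level A -/
def SA : X → Bool := ![true, true, true, true, true, true, true]

/-- lower letters of level A -/
def TA : X → Bool := ![true, true, true, true, true, true, false]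

def wdA : H34.TCS6A.Lt → W X
  | .t0 => [(0, true)]
  | .t1 => [(1, true)]
  | .t2 => [(2, true)]
  | .t3 => [(3, true)]
  | .t4 => [(4, true)]
  | .t5 => [(5, true)]
  | .t6 => [(6, true)]
  | .w => [(2, true), (0, true), (2, true), (0, true)]
  | .v => [(0, true), (1, true), (2, true), (3, true), (4, true), (5, true), (6, true), (0, true), (1, true), (2, true), (3, true), (4, true), (5, true), (6, true), (0, true), (1, true), (2, true), (3, true), (4, true), (5, true), (6, true), (0, true), (1, true), (2, true), (3, true), (4, true), (5, true), (6, true), (0, true), (1, true), (2, true), (3, true), (4, true), (5, true), (6, true), (0, true), (1, true), (2, true), (3, true), (4, true), (5, true), (6, true), (0, true), (1, true), (2, true), (3, true), (4, true), (5, true), (6, true), (0, true), (1, true), (2, true), (3, true), (4, true), (5, true), (6, true), (0, true), (1, true), (2, true), (3, true), (4, true), (5, true), (6, true)]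
  | .vi => [(6, true), (5, true), (4, true), (3, true), (2, true), (1, true), (0, true), (6, true), (5, true), (4, true), (3, true), (2, true), (1, true), (0, true), (6, true), (5, true), (4, true), (3, true), (2, true), (1, true), (0, true), (6, true), (5, true), (4, true), (3, true), (2, true), (1, true), (0, true), (6, true), (5, true), (4, true), (3, true), (2, true), (1, true), (0, true), (6, true), (5, true), (4, true), (3, true), (2, true), (1, true), (0, true), (6, true), (5, true), (4, true), (3, true), (2, true), (1, true), (0, true), (6, true), (5, true), (4, true), (3, true), (2, true), (1, true), (0, true), (6, true), (5, true), (4, true), (3, true), (2, true), (1, true), (0, true)]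

def rulesA : List (RR X) := [
  .given [(0, true), (1, true), (0, true), (1, false), (0, false), (1, false)],
  .given [(1, true), (2, true), (1, true), (2, false), (1, false), (2, false)],
  .given [(2, true), (3, true), (2, true), (3, false), (2, false), (3, false)],
  .given [(1, true), (4, true), (1, true), (4, false), (1, false), (4, false)],
  .given [(4, true), (5, true), (4, true), (5, false), (4, false), (5, false)],
  .given [(5, true), (6, true), (5, true), (6, false), (5, false), (6, false)],
  .csq [(2, true)] [(0, true)],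
  .cc [(3, true), (2, true)] [(0, true)] [(3, true)] [(0, true)] [(2, true)],
  .cc [(3, true), (2, true), (1, true), (4, true), (5, true), (0, true), (1, true), (4, true), (2, true), (3, true), (1, true), (2, true), (0, true), (1, true), (4, true), (5, true)] [(4, true)] [(0, true)] [(0, true)] [(2, true)],
  .cc [(3, true), (2, true), (1, true), (4, true), (5, true), (0, true), (1, true), (4, true), (2, true), (3, true), (1, true), (2, true), (0, true), (1, true)] [(5, true)] [(0, true)] [(0, true)] [(2, true)],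
  .cc [(3, true), (2, true), (1, true), (4, true), (5, true), (6, true), (0, true), (1, true), (4, true), (5, true), (2, true), (3, true), (1, true), (2, true), (0, true), (1, true)] [(6, true)] [(0, true)] [(0, true)] [(2, true)],
  .cc [(3, true), (2, true), (1, true), (0, true)] [(1, true)] [(3, true)] [(0, true)] [(2, true)],
  .cc [(3, true), (2, true), (1, true), (4, true), (5, true), (0, true), (1, true), (4, true), (2, true), (3, true), (1, true), (2, true)] [(5, true)] [(1, true)] [(0, true)] [(2, true)],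
  .cc [(3, true), (2, true), (1, true), (4, true), (5, true), (6, true), (0, true), (1, true), (4, true), (5, true), (2, true), (3, true), (1, true), (2, true)] [(6, true)] [(1, true)] [(0, true)] [(2, true)],
  .cc [(3, true), (2, true), (1, true), (4, true), (0, true), (1, true), (2, true), (3, true)] [(4, true)] [(2, true)] [(0, true)] [(2, true)],
  .cc [(3, true), (2, true), (1, true), (4, true), (5, true), (0, true), (1, true), (4, true), (2, true), (3, true)] [(5, true)] [(2, true)] [(0, true)] [(2, true)],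
  .cc [(3, true), (2, true), (1, true), (4, true), (5, true), (6, true), (0, true), (1, true), (4, true), (5, true), (2, true), (3, true)] [(6, true)] [(2, true)] [(0, true)] [(2, true)],
  .cc [(3, true), (2, true), (1, true), (4, true), (0, true), (1, true)] [(4, true)] [(3, true)] [(0, true)] [(2, true)],
  .cc [(3, true), (2, true), (1, true), (4, true), (5, true), (0, true), (1, true), (4, true)] [(5, true)] [(3, true)] [(0, true)] [(2, true)],
  .cc [(3, true), (2, true), (1, true), (4, true), (5, true), (6, true), (0, true), (1, true), (4, true), (5, true)] [(6, true)] [(3, true)] [(0, true)] [(2, true)],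
  .cc [(3, true), (2, true), (1, true), (4, true), (5, true), (6, true), (0, true), (1, true), (4, true), (5, true), (2, true), (1, true), (4, true), (3, true), (2, true), (1, true)] [(6, true)] [(4, true)] [(0, true)] [(2, true)]]

def cenA : H34.TCS6A.Lt → Bool
  | .w => true
  | .v => true
  | .vi => true
  | _ => false

def CA : CQ X H34.TCS6A.Lt where
  iv := iv
  wd := wdA
  cen := cenA
  exact := rulesA.map fun r => nred iv (r.word 8 nn)

theorem lvA {P' : Type} [Group P'] [Finite P'] {f : X → P'} (hh : CA.Holds f) :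
    Nat.card (Kl f SA) ≤ 56 * Nat.card (Kl f TA) := by
  obtain ⟨hinv, hrel⟩ := CQ.relOK hh (inv := H34.TCS6A.inv) (mm := H34.TCS6A.mm) (ex := H34.TCS6A.extra) (by intro x; cases x <;> decide +kernel)
    (by intro x y; cases x <;> cases y <;> decide +kernel) (by decide +kernel)
  exact level (subs := H34.TCS6A.subs) (fun H hH => H34.TCS6A.main hinv hrel.1 hrel.2 hH) (by decide +kernel) (by
    intro x hx
    fin_cases x
    · exact ⟨.t0, rfl⟩
    · exact ⟨.t1, rfl⟩
    · exact ⟨.t2, rfl⟩
    · exact ⟨.t3, rfl⟩
    · exact ⟨.t4, rfl⟩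
    · exact ⟨.t5, rfl⟩
    · exact ⟨.t6, rfl⟩)

theorem htA : ∀ r ∈ rulesA, ∀ w ∈ r.needs, ev g w = 1 := by
  have h : ((rulesA.flatMap RR.needs).all fun w => isOne 6 64 (evc 6 64 code code w)) = true := by decide +kernel
  intro r hr w hw
  exact tr (List.all_eq_true.1 h w (List.mem_flatMap.2 ⟨r, hr, hw⟩))
theorem hcA : ∀ z, CA.cen z = true → ev g (CA.wd z) = 1 := by
  intro z hz
  refine tr ?_
  cases z <;> first | (exact absurd hz (by decide)) | decide +kernel

/-- letters of level B -/
def SB : X → Bool := ![true, true, true, true, true, true, false]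

/-- lower letters of level B -/
def TB : X → Bool := ![true, true, true, true, true, false, false]

def wdB : H34.TCS6B.Lt → W X
  | .t0 => [(0, true)]
  | .t1 => [(1, true)]
  | .t2 => [(2, true)]
  | .t3 => [(3, true)]
  | .t4 => [(4, true)]
  | .t5 => [(5, true)]
  | .w => [(2, true), (0, true), (2, true), (0, true)]

def rulesB : List (RR X) := [
  .given [(0, true), (1, true), (0, true), (1, false), (0, false), (1, false)],
  .given [(1, true), (2, true), (1, true), (2, false), (1, false), (2, false)],
  .given [(2, true), (3, true), (2, true), (3, false), (2, false), (3, false)],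
  .given [(1, true), (4, true), (1, true), (4, false), (1, false), (4, false)],
  .given [(4, true), (5, true), (4, true), (5, false), (4, false), (5, false)],
  .csq [(2, true)] [(0, true)],
  .cc [(3, true), (2, true)] [(0, true)] [(3, true)] [(0, true)] [(2, true)],
  .cc [(3, true), (2, true), (1, true), (4, true), (5, true), (0, true), (1, true), (4, true), (2, true), (3, true), (1, true), (2, true), (0, true), (1, true), (4, true), (5, true)] [(4, true)] [(0, true)] [(0, true)] [(2, true)],
  .cc [(3, true), (2, true), (1, true), (4, true), (5, true), (0, true), (1, true), (4, true), (2, true), (3, true), (1, true), (2, true), (0, true), (1, true)] [(5, true)] [(0, true)] [(0, true)] [(2, true)],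
  .cc [(3, true), (2, true), (1, true), (0, true)] [(1, true)] [(3, true)] [(0, true)] [(2, true)],
  .cc [(3, true), (2, true), (1, true), (4, true), (5, true), (0, true), (1, true), (4, true), (2, true), (3, true), (1, true), (2, true)] [(5, true)] [(1, true)] [(0, true)] [(2, true)],
  .cc [(3, true), (2, true), (1, true), (4, true), (0, true), (1, true), (2, true), (3, true)] [(4, true)] [(2, true)] [(0, true)] [(2, true)],
  .cc [(3, true), (2, true), (1, true), (4, true), (5, true), (0, true), (1, true), (4, true), (2, true), (3, true)] [(5, true)] [(2, true)] [(0, true)] [(2, true)],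
  .cc [(3, true), (2, true), (1, true), (4, true), (0, true), (1, true)] [(4, true)] [(3, true)] [(0, true)] [(2, true)],
  .cc [(3, true), (2, true), (1, true), (4, true), (5, true), (0, true), (1, true), (4, true)] [(5, true)] [(3, true)] [(0, true)] [(2, true)]]

def cenB : H34.TCS6B.Lt → Bool
  | .w => true
  | _ => false

def CB : CQ X H34.TCS6B.Lt where
  iv := iv
  wd := wdB
  cen := cenB
  exact := rulesB.map fun r => nred iv (r.word 8 nn)

theorem lvB {P' : Type} [Group P'] [Finite P'] {f : X → P'} (hh : CB.Holds f) :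
    Nat.card (Kl f SB) ≤ 27 * Nat.card (Kl f TB) := by
  obtain ⟨hinv, hrel⟩ := CQ.relOK hh (inv := H34.TCS6B.inv) (mm := H34.TCS6B.mm) (ex := H34.TCS6B.extra) (by intro x; cases x <;> decide +kernel)
    (by intro x y; cases x <;> cases y <;> decide +kernel) (by decide +kernel)
  exact level (subs := H34.TCS6B.subs) (fun H hH => H34.TCS6B.main hinv hrel.1 hrel.2 hH) (by decide +kernel) (by
    intro x hx
    fin_cases x
    · exact ⟨.t0, rfl⟩
    · exact ⟨.t1, rfl⟩
    · exact ⟨.t2, rfl⟩
    · exact ⟨.t3, rfl⟩
    · exact ⟨.t4, rfl⟩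
    · exact ⟨.t5, rfl⟩
    · exact absurd hx (by decide))

theorem htB : ∀ r ∈ rulesB, ∀ w ∈ r.needs, ev g w = 1 := by
  have h : ((rulesB.flatMap RR.needs).all fun w => isOne 6 64 (evc 6 64 code code w)) = true := by decide +kernel
  intro r hr w hw
  exact tr (List.all_eq_true.1 h w (List.mem_flatMap.2 ⟨r, hr, hw⟩))
theorem hcB : ∀ z, CB.cen z = true → ev g (CB.wd z) = 1 := by
  intro z hz
  refine tr ?_
  cases z <;> first | (exact absurd hz (by decide)) | decide +kernel

/-- letters of level C -/
def SC : X → Bool := ![true, true, true, true, true, false, false]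

/-- lower letters of level C -/
def TC : X → Bool := ![false, true, false, false, false, false, false]

def wdC : H34.TCS6C.Lt → W X
  | .t0 => [(0, true)]
  | .t1 => [(1, true)]
  | .t2 => [(2, true)]
  | .t3 => [(3, true)]
  | .t4 => [(4, true)]
  | .w => [(2, true), (0, true), (2, true), (0, true)]

def rulesC : List (RR X) := [
  .given [(0, true), (1, true), (0, true), (1, false), (0, false), (1, false)],
  .given [(1, true), (2, true), (1, true), (2, false), (1, false), (2, false)],
  .given [(2, true), (3, true), (2, true), (3, false), (2, false), (3, false)],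
  .given [(1, true), (4, true), (1, true), (4, false), (1, false), (4, false)],
  .csq [(2, true)] [(0, true)],
  .cc [(3, true), (2, true)] [(0, true)] [(3, true)] [(0, true)] [(2, true)],
  .cc [(3, true), (2, true), (1, true), (4, true), (5, true), (0, true), (1, true), (4, true), (2, true), (3, true), (1, true), (2, true), (0, true), (1, true), (4, true), (5, true)] [(4, true)] [(0, true)] [(0, true)] [(2, true)],
  .cc [(3, true), (2, true), (1, true), (0, true)] [(1, true)] [(3, true)] [(0, true)] [(2, true)],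
  .cc [(3, true), (2, true), (1, true), (4, true), (0, true), (1, true), (2, true), (3, true)] [(4, true)] [(2, true)] [(0, true)] [(2, true)],
  .cc [(3, true), (2, true), (1, true), (4, true), (0, true), (1, true)] [(4, true)] [(3, true)] [(0, true)] [(2, true)]]

def cenC : H34.TCS6C.Lt → Bool
  | .w => true
  | _ => false

def CC : CQ X H34.TCS6C.Lt where
  iv := iv
  wd := wdC
  cen := cenC
  exact := rulesC.map fun r => nred iv (r.word 8 nn)

theorem lvC {P' : Type} [Group P'] [Finite P'] {f : X → P'} (hh : CC.Holds f) :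
    Nat.card (Kl f SC) ≤ 1920 * Nat.card (Kl f TC) := by
  obtain ⟨hinv, hrel⟩ := CQ.relOK hh (inv := H34.TCS6C.inv) (mm := H34.TCS6C.mm) (ex := H34.TCS6C.extra) (by intro x; cases x <;> decide +kernel)
    (by intro x y; cases x <;> cases y <;> decide +kernel) (by decide +kernel)
  exact level (subs := H34.TCS6C.subs) (fun H hH => H34.TCS6C.main hinv hrel.1 hrel.2 hH) (by decide +kernel) (by
    intro x hx
    fin_cases x
    · exact ⟨.t0, rfl⟩
    · exact ⟨.t1, rfl⟩
    · exact ⟨.t2, rfl⟩
    · exact ⟨.t3, rfl⟩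
    · exact ⟨.t4, rfl⟩
    · exact absurd hx (by decide)
    · exact absurd hx (by decide))

theorem htC : ∀ r ∈ rulesC, ∀ w ∈ r.needs, ev g w = 1 := by
  have h : ((rulesC.flatMap RR.needs).all fun w => isOne 6 64 (evc 6 64 code code w)) = true := by decide +kernel
  intro r hr w hw
  exact tr (List.all_eq_true.1 h w (List.mem_flatMap.2 ⟨r, hr, hw⟩))
theorem hcC : ∀ z, CC.cen z = true → ev g (CC.wd z) = 1 := by
  intro z hz
  refine tr ?_
  cases z <;> first | (exact absurd hz (by decide)) | decide +kernel

def pcode : X → ℕ := ![0xdbe6eedad086b4c48ee39bc3edc916acabb392aaecefa99e93cc656bbcd17be9d6bbd2ca98cf5958c6c253e4e8c1c75666b15a7335a85cbe4e83e2eba6e0aededfb8494847d9dcb684b055684241a49d54d7dd3dea7d9ac844a15e6fd8a04b8cce903ce7107574a770e53682ba885f37e18b7c99cd796d762726a3a272d3299c8d2e6c7abf255b96d5d433383b1c1b1a219177bd9fb9b5cb7fc59769c039435d78ad1781952fb7b2af7e24a54a8a898022618794851e716020638f6e67040d0c510a12110f005232504f624d2d314c400b300e6a1464282c45572b3e0706054603013f3a13341d2a1f23181915080902, 0xe483b5e8c18dc6ef87c994eca8baa5d0a341cfbd9f69b9b0b3858e4f60266b48a00a66ddbc63ed72b2eb965b54ace9a47650d9c85f59dc796ae2e6e0d8c26cd77d7762c7994d45ee527457c547931bccdaa236e73075af1ae1c040ea893b379c4c33e5d519df9e3f903aca31e37134050302ab427827b1d2bed47cde64cba7670cce5db8cdaddb3e3dd170d3d6b756738f117a24c317b63897140fc461821faebf23a9bb181312b48a32aa15099aa69184a1651e9d9b0d9895926e218c8b88860e811c807f7e22006d7b2d5a49392e2c4a6f07066858465e5c2b5553514e4b2a4443293c1d352f280125200816100b04,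 0xddea86a08ce38ebad09beeb6e5cccbb010acec6d9d927a879cb514627dbd5c90e24b5a5957c9d6e1c053c783a8c556c26ab77b9a91e4d24eaee8cae7e0de494846adbea68b796cc42fb2424144a189ef6f3ddad8ed72d3167574bb5b70db8fb495eb54e9af556851d7e63a4ac343713f98df73bcb9dca9274f77a5a4997c219e6901d9aa25d43ca23e1c1b1930bfd53239ce78cd8dd1cf7fc8c6a394c181847650b123293588b8b37eab128aa79796222065939f1e634c040d0c5e0961648085820e171300155f38265d662d453752312c366e6b6728600706580233054d0b472a34403b181d2e2b11241f1a080f0a03, 0xd9b4ebdce695edb9bbe991bdd0c7c583bed2bcefaaa9ec6b66580a939da6b3eecb8cb0c8cc98c1cf59c9575a5ce2b5e19e47e8a090ace4af82b2c6e3cdbaabd1b1dfa7b6b8dadbe0b77ba4977776447245d4735f5e6d6cd696a5e540bfd3ea8fe7ce373551504f4e4c4b1a4948ad706f5343797ade9a99748a89272692dd6a2120d57c7dd7524d5534d82e363871033b878675c424c3c2cac07fa117166246a3a2849f9c9b8b88a8ae4a6968105d788d121581806411258594608e656e1f23187e670d0c61091c0b424129543f2d3d3c192c00390f63133a5b561b2b3231302f3e2a06050433021d28221e07140e0801, 0x9386e59e95ed918435eae6889b16b510b3af3dbfd7d8d4dbdac860dc4cb8ae4b58e7be98d6cbe1ca53c5c1a78256c0c6d9d149218c514e7b5a4a575e4746d2dfa6cd5c8bde6b662fc3ab943769312070a3ef879dee7129cf8d40e997ec9cebce8ebba58fb29f3fe892e32ee443c4bca1e2e03952b16a1c0645125b0d5f817cdd553b6225a96d8a801aaa38d5347a3233d3d024b742ad7fccc9c73c75c29ab64d23bd7773b4bab97eb0ac506fa85422a4a204a0440a099967966e90856414890e836378001f187d3e172d79277674726803011e6c286561025d590b192b4f2a48073a411d0f36302c1526081b13110c05,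 0x96ebd0a4e38eeec09bb48cc5e9b2b9c9b8cc41a568a1976385b094644fcb58e6de9598a67bb348d2b6a8e85356ba83e460abe1264bc7574746c2e0edd659dfcabeaf8be2ae4455c14acfd9ef6c9ddb741b368930902750d1dcec35333ba2ce865ee5d5eab779922f3ae7d843c651052e5c4e775dc842a3bc99d37add7678130c6540758a1a193eda6f383cbfd7325bd411bb9a16147faccdbdc4aa61c31fa77d73100f188f827eb5b1ad15a9886da00a099f1e679e9c076b6e9391808d6a0e878420008124230b257c72040302012c34717022286966625f2b5a4d54522a4c49453f1d3d3937312d2908211c17120d06, 0xd7c2c1d8c9c0b5b3ccc6c5b0c7b495ba88c387669e936befec8c85aa215abde2e798b9908f8ee9bbeeedeadea6e3e6e5a949cd5fcb48d1b7b1e0eb59e4a8ade8a74eb88382bfd4acabc4378d319f3c9c89da70dd56295235409457a4db3de1cfc8d696ca2f3f6947a05333dfb2afd3445e5171395c1c6217124d0d54814c9992a11a256adc79a26f36d93b2ed56c3a34721606d2747bd0ce918680419b7d102345be4fbc7f7eaeb6844376208b225ba5a31e9d6867149a6e97655864630e8a6146605d15111f7c012d247a7877757355021b286d0c0a092b264b05302a50034a2c19423e0038320b08270f1d18130407]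
def pcodei : X → ℕ := ![0xdaede3dbb49bd0c38cee86c4e6b57fb2afb09da9efecaa939ecf676672cdd2ebca8f7bd658cce298c1c756e8e4c6c2536bb85cd3ce835aae49a859e9de48bea647b14ee0dfdcd9ba88b344a1757496925bd8a070e5997ccb55684b3cd7dd5e8e35e76f907e4241823dea3ba7b6844c4057469a7dd16c7a4f5d788a89bc7339879434796dd41c54a433bfd51a36253e38819550b969bdc9c816c0a59fc5292f2726b724219143adacab10179751a3a2200d149c8d630c52648085bb0a6528221e4a6e23181508711977766a45063f5f37073a0962616004054de1031b0b2d2c8b2b1d31301f2e0102131211320f000e2a, 0xe8a8c9e4c694c1ec9cb58def83b697b48a74ccb9699fbdb3b0638c76647866e0dd6e6ba07285e6bcace9a4545bb2eb964f77dccb4ce2d96c6259ed48d7c779d899506ac27d454de37141e1c0df9e3ecfdb893b903a42ab3857c537e5a23640875fd5ea3332479331e730d63fee522e2c2b2aaf75265db87baebf9aa660c882651e3527b1d1b7da1b70cd3d73caad53d3bb186d17c424ba1aa56115c314a713bed412aa8f111f23d0a319a90f0e7cde958868670c92862258919d0a818e46849b0921252016100d087ad2065c4e293405513c0b2da1988b4b5a0344564a495e02552f396f01ce43041d1c80007f7e0728, 0xa0e59bdd8eee8cb6b486e3baeacfc8b37eb2ef7a929d6d9c87c9616a99b95ae7595e5ce2e1b5ca57c556c2a883c053c762add27c95e87b49bee4d69048a64ee08bb7aede466c79c343ac75745568a2ec3c70dbd7e6bc737f42418f543ddabbd091e95bebab44a14ad8ed3051c42f52315847d372bdd9aa5d765097967d9a81939f1ddca91cbf6f891b253e323ad43319293526d194cdcc16cbc18a8dc621884f77b81239ce84b1b010af23a382a5a40d80679e690c855f28221e4b0e14602063a709241f080f4c1a78276b064d40713f053b0a666504640b2d982ad52c4507df022e3736110134031817133800156e2b,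 0xdcd0e9d9ed91e6bd8feb95b9b4c2c0a8ae7b72eca9aaef666b986e9e92deb0e3c88eb3cbcf58c6cce2b5e15c5a59c95793dfe4dde7b2e8aba7acc1eed1b6afcdb84782bab1dbda48add296a5504f55bc4dbfd34c4b7a79caa497ea37d473e5bb903540ce4a7776495f5e384ee0b73d3c562f6c6da67c7d41a3a25d789da0628180339a99d87145442ed7343b1a522b369c9b42c317c4c7d6c51668247f6a8b8a8988698786468483be519fa17e272694230f212060181c638d648c670a1312111065221e140e25077574395b3106706f3205082915851f3054533e03193f3a431b022d2c28d52a01040d0c0b6109001d, 0x9e9bea9391e69588cee5ed84867fc97eb0ab70d4d8d7bfdadbcb64d95fb1be5e9890ae58cac857d656c0c682a753c5c1dccd4e818e4a49d25c51e14bdf8b7b47ded15a46a6666b43c4af8d409f3f803d8aec9c92e35239cc9437eba5ef87e9358c8f97bbac6931e49dee34e82fc3726859482971b862252d4d2354224c219aa044366a1caa7aa32038a91a332e6d19d573b417ad75b716cfb5c26f42c77cba4512b950d3d0b6bd10b3b2773c835b0d968928dd556e0e7d65a40ae7636061a209a88526081311991b24066c5d4f41bca12b1d0c790467142a27e20732037602e00b307401153b3a050f78003e1f181e2c, 0xa4e9b496ee8ce3c586d08ec0ebacbdb5b1cf7497a168a58563b38d6076c898eda69158ded2b0e07bba83e45653b6a8e864af57785ec2e1df8bc748e6cae247d6aeab4659be5544c651ccdcec7992da413e3ba23ae75d77cdd9efced53689359b4bea33e5ad6c9d433090d72fc14a2c345a495027cb758a727d736da04f261f1e673742a338321bdb3c1a6fd4d81954bf188f7c7f6116b2d1b9c3a914c4138299d37e1511bba710c9b8b70faa847add6e0e690c6593870b660a9e95209462099c888008211712071c9abc282b2a1d052e523d0d049f6b6a4c035c455b71025f4e4d31017029403f06390081252423222d,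 0xd8c7c6d7b5c5c9b0cfc1c0b3c2d091b684c49c6b939e66ecef8e63a9815cb9599058bde7bb8ceb8fe3e6e5a6deeeedeaaa4ed14cc8e0cdadb848e9e2e883b7e48249b1a8a7d4bfb2afc340943f696f87a2db3da0533971ce378de196da7057cccbcaa4d643319fdfdd56d547acab73554b4a52295a256a242345225b215f7d9d68381c62d96c893c3bdc36343379302ebc7f2d7b41d2b435959b207486997e124dae76721610beba882f4f80460d54978a0c92a165617c0aa56798608509a3148b64270f18139a1d06176d265042d3442a3e047a1e6e0e03785e2c3a02772b510532751b081a1907005d1501111f280b]
theorem pok : ∀ x, okc 8 240 (pcode x) (pcodei x) = true := by intro x; fin_cases x <;> decide +kernel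
noncomputable def pp (x : X) : Equiv.Perm (Fin 240) := ofCode (finCoding 240) 8 (pcode x) (pcodei x) (pok x)
theorem prep (x : X) : Rep (finCoding 240) 8 (pp x) (pcode x) := rep_ofCode _
theorem prepi (x : X) : Rep (finCoding 240) 8 (pp x)⁻¹ (pcodei x) := rep_ofCode_inv _
theorem ptr {w : W X} (h : isOne 8 240 (evc 8 240 pcode pcodei w) = true) : ev pp w = 1 :=
  (Rep.isOne_iff (rep_evc (by norm_num) (g := pp) prep prepi w)).1 h
noncomputable def both (w : W X) : Bool := isOne 6 64 (evc 6 64 code code w) && isOne 8 240 (evc 8 240 pcode pcodei w)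
theorem pt2 {w : W X} (h : both w = true) : ev (pr pp g) w = 1 := by
  rw [both, Bool.and_eq_true] at h
  rw [ev_pr, tr h.1, ptr h.2]
  rfl

theorem hbA : ∀ w ∈ CA.exact, ev (pr pp g) (bal CA.iv 0 w) = 1 ∧ cnt CA.iv w % 2 = 0 ∧ 0 ≤ cnt CA.iv w := by
  have h : (CA.exact.all fun w => both (bal CA.iv 0 w)) = true := by decide +kernel
  have h' : (CA.exact.all fun w => decide (cnt CA.iv w % 2 = 0 ∧ 0 ≤ cnt CA.iv w)) = true := by decide +kernel
  intro w hw
  exact ⟨pt2 (List.all_eq_true.1 h w hw), of_decide_eq_true (List.all_eq_true.1 h' w hw)⟩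
theorem hzA : ∀ z, CA.cen z = true → ∀ x, ev (pr pp g) (cmw (CA.wd z) [(x, true)]) = 1 := by
  intro z hz x
  refine pt2 ?_
  revert x
  cases z <;> first | (exact absurd hz (by decide)) | decide +kernel

theorem hbB : ∀ w ∈ CB.exact, ev (pr pp g) (bal CB.iv 0 w) = 1 ∧ cnt CB.iv w % 2 = 0 ∧ 0 ≤ cnt CB.iv w := by
  have h : (CB.exact.all fun w => both (bal CB.iv 0 w)) = true := by decide +kernel
  have h' : (CB.exact.all fun w => decide (cnt CB.iv w % 2 = 0 ∧ 0 ≤ cnt CB.iv w)) = true := by decide +kernel
  intro w hw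
  exact ⟨pt2 (List.all_eq_true.1 h w hw), of_decide_eq_true (List.all_eq_true.1 h' w hw)⟩
theorem hzB : ∀ z, CB.cen z = true → ∀ x, ev (pr pp g) (cmw (CB.wd z) [(x, true)]) = 1 := by
  intro z hz x
  refine pt2 ?_
  revert x
  cases z <;> first | (exact absurd hz (by decide)) | decide +kernel

theorem hbC : ∀ w ∈ CC.exact, ev (pr pp g) (bal CC.iv 0 w) = 1 ∧ cnt CC.iv w % 2 = 0 ∧ 0 ≤ cnt CC.iv w := by
  have h : (CC.exact.all fun w => both (bal CC.iv 0 w)) = true := by decide +kernel
  have h' : (CC.exact.all fun w => decide (cnt CC.iv w % 2 = 0 ∧ 0 ≤ cnt CC.iv w)) = true := by decide +kernel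
  intro w hw
  exact ⟨pt2 (List.all_eq_true.1 h w hw), of_decide_eq_true (List.all_eq_true.1 h' w hw)⟩
theorem hzC : ∀ z, CC.cen z = true → ∀ x, ev (pr pp g) (cmw (CC.wd z) [(x, true)]) = 1 := by
  intro z hz x
  refine pt2 ?_
  revert x
  cases z <;> first | (exact absurd hz (by decide)) | decide +kernel

theorem chain {P' : Type} [Group P'] [Finite P'] {f : X → P'} (hA : CA.Holds f) (hB : CB.Holds f) (hC : CC.Holds f) :
    Nat.card (Subgroup.closure (Set.range f)) ≤ 2 * 2903040 := by
  have e0 : Kl f SA = Subgroup.closure (Set.range f) := Kl_all_of (by decide)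
  have e1 : Kl f TA = Kl f SB := by congr 1
  have e2 : Kl f TB = Kl f SC := by congr 1
  have a := lvA hA
  have b := lvB hB
  have c := lvC hC
  have d : Nat.card (Kl f TC) ≤ 2 := card_Kl_one (x0 := 1) (by decide) (by norm_num) (by rw [pow_two]; exact hA.iv 1 rfl)
  rw [e1] at a
  rw [e2] at b
  rw [← e0]
  omega
theorem gen' : Subgroup.closure (Set.range g) = ⊤ := gen
theorem ht0 : ∀ x, tr' x = true → ev g (tword par uw x) = 1 := by
  intro x _
  refine tr ?_
  revert x
  decide +kernel
theorem g0 : g 0 * g 0 = 1 := by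
  have h : ev g [(0, true), (0, true)] = 1 := tr (by decide +kernel)
  change g 0 * (g 0 * 1) = 1 at h
  rwa [mul_one] at h
theorem noExt4 : NoExt S 4 := by
  refine noExt_root perf nn (iv := iv) (tr := tr') (par := par) (uw := uw) (g := g) (by decide) ht0 (x0 := 0) rfl g0 (by decide)
    (by decide) (by decide) (by decide) gen (B := 2 * 2903040) ?_ (by rw [card_S]; norm_num)
  intro P' _ _ π f h hf
  have hG : ∀ w ∈ Gv, ev f w = 1 := by
    intro w hw
    simp only [Gv, List.mem_cons, List.not_mem_nil, or_false] at hw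
    rcases hw with rfl | rfl | rfl | rfl | rfl | rfl <;> exact hf _ rfl
  exact chain (PL.holdsQ (C := CA) (rules := rulesA) h hG (Inj.none _ (fun _ => rfl)) rfl (by decide +kernel) htA hcA)
    (PL.holdsQ (C := CB) (rules := rulesB) h hG (Inj.none _ (fun _ => rfl)) rfl (by decide +kernel) htB hcB)
    (PL.holdsQ (C := CC) (rules := rulesC) h hG (Inj.none _ (fun _ => rfl)) rfl (by decide +kernel) htC hcC)
theorem card_E : Nat.card (EP pp g) ≤ 2903040 := by
  refine card_EP_le (iv := iv) (x0 := 0) rfl g0 ?_ ?_ (rep [(0, true), (1, true), (2, true), (3, true), (4, true), (5, true), (6, true)] 9 ++ cmw [(0, true)] [(2, true)])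
    1 (pt2 (by decide +kernel)) (by decide +kernel) (pt2 (by decide +kernel)) ?_
  · intro x _
    refine pt2 ?_
    revert x
    decide +kernel
  · intro x
    refine pt2 ?_
    revert x
    decide +kernel
  · intro Q _ _ f hsq hK hgen
    exact chain (holdsB (C := CA) (x0 := 0) rfl hsq hK hgen hbA hzA) (holdsB (C := CB) (x0 := 0) rfl hsq hK hgen hbB hzB)
      (holdsB (C := CC) (x0 := 0) rfl hsq hK hgen hbC hzC)
theorem ex : ∃ (Γ : Type) (_ : Group Γ) (_ : Finite Γ) (σ : Γ →* S), Cfsg.IsStemExtension σ ∧
      Nonempty (σ.ker ≃* Multiplicative (ZMod 2)) := by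
  refine exists_cover_comm (p := pp) (g := g) gen (by norm_num) [(0, true)] [(2, true)] (tr (by decide +kernel)) ?_ ?_
    (card_E.trans (by rw [card_S]))
  · apply orderOf_eq_prime
    · rw [← ev_rep]
      exact ptr (by decide +kernel)
    · intro h
      have := (Rep.isOne_iff (rep_evc (by norm_num) (g := pp) prep prepi _)).2 h
      exact absurd this (by decide +kernel)
  · intro x
    have h : ∀ x : X, isOne 8 240 (evc 8 240 pcode pcodei (cmw [(x, true)] (cmw [(0, true)] [(2, true)]))) = true := by decide +kernel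
    have h1 := ptr (h x)
    rw [ev_cmw] at h1
    change pp x * 1 * _ * (pp x * 1)⁻¹ * _ = 1 at h1
    rw [mul_one, mul_inv_eq_one, mul_inv_eq_iff_eq_mul] at h1
    exact h1
end H34.MulSp6
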