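import Mathlib
import Cfsg.Agent.Lib.H34.MulSp6
import Cfsg.Agent.Lib.H35.TCE7E6
import Cfsg.Agent.Lib.H35.TCE6D5
import Cfsg.Agent.Lib.H35.TCD5A2
import Cfsg.Agent.Lib.H35.TCDih3

/-! # The Schur multiplier of `Sp₆(2)`: odd part and conclusion -/

set_option autoImplicit false
set_option maxRecDepth 100000
set_option linter.all false

namespace H34.MulSp6
open Subgroup H35.Stem H35.TC H34.MK H40.PermCode H34.Sp6

def ed : X → X → ℕ := fun x y => if (x.val, y.val) ∈ [(0,1),(1,2),(2,3),(1,4),(4,5),(5,6)] then 3 else 2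
def rulesO : List (RR X) := [(0,1),(0,2),(0,3),(0,4),(0,5),(0,6),(1,2),(1,3),(1,4),(1,5),(1,6),(2,3),(2,4),(2,5),(2,6),(3,4),(3,5),(3,6),(4,5),(4,6),(5,6)].map
  fun p => RR.dihx [(p.1, true)] [(p.2, true)] (ed p.1 p.2)

def C7 : CQ X H35.TCE7E6.Lt where
  iv := iv
  wd := fun l => match l with
    | .a => [(6, true)] | .b => [(5, true)] | .c => [(4, true)] | .d => [(1, true)] | .e => [(2, true)] | .f => [(3, true)] | .h => [(0, true)]
  cen := fun _ => false
  exact := rulesO.map fun r => nred iv (r.word 3 nn)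
def C6 : CQ X H35.TCE6D5.Lt where
  iv := iv
  wd := fun l => match l with
    | .b => [(5, true)] | .c => [(4, true)] | .d => [(1, true)] | .e => [(2, true)] | .f => [(3, true)] | .h => [(0, true)]
  cen := fun _ => false
  exact := rulesO.map fun r => nred iv (r.word 3 nn)
def C5 : CQ X H35.TCD5A2.Lt where
  iv := iv
  wd := fun l => match l with
    | .b => [(5, true)] | .c => [(4, true)] | .d => [(1, true)] | .e => [(2, true)] | .h => [(0, true)]
  cen := fun _ => false
  exact := rulesO.map fun r => nred iv (r.word 3 nn)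
def C3 : CQ X H35.TCDih3.Lt where
  iv := iv
  wd := fun l => match l with
    | .b => [(5, true)] | .c => [(4, true)]
  cen := fun _ => false
  exact := rulesO.map fun r => nred iv (r.word 3 nn)

def U7 : X → Bool := ![true, true, true, true, true, true, true]
def U6 : X → Bool := ![true, true, true, true, true, true, false]
def U5 : X → Bool := ![true, true, true, false, true, true, false]
def U2 : X → Bool := ![false, false, false, false, true, true, false]
def U0 : X → Bool := ![false, false, false, false, false, false, false]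

theorem l7 {P' : Type} [Group P'] [Finite P'] {f : X → P'} (hh : C7.Holds f) : Nat.card (Kl f U7) ≤ 56 * Nat.card (Kl f U6) := by
  obtain ⟨hinv, hrel⟩ := CQ.relOK hh (inv := H35.TCE7E6.inv) (mm := H35.TCE7E6.mm) (ex := H35.TCE7E6.extra) (by intro x; cases x <;> decide +kernel)
    (by intro x y; cases x <;> cases y <;> decide +kernel) (by decide +kernel)
  exact level (subs := H35.TCE7E6.subs) (fun H hH => H35.TCE7E6.main hinv hrel.1 hrel.2 hH) (by decide +kernel) (by
    intro x hx
    fin_cases x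
    · exact ⟨.h, rfl⟩
    · exact ⟨.d, rfl⟩
    · exact ⟨.e, rfl⟩
    · exact ⟨.f, rfl⟩
    · exact ⟨.c, rfl⟩
    · exact ⟨.b, rfl⟩
    · exact ⟨.a, rfl⟩)
theorem l6 {P' : Type} [Group P'] [Finite P'] {f : X → P'} (hh : C6.Holds f) : Nat.card (Kl f U6) ≤ 27 * Nat.card (Kl f U5) := by
  obtain ⟨hinv, hrel⟩ := CQ.relOK hh (inv := H35.TCE6D5.inv) (mm := H35.TCE6D5.mm) (ex := H35.TCE6D5.extra) (by intro x; cases x <;> decide +kernel)
    (by intro x y; cases x <;> cases y <;> decide +kernel) (by decide +kernel)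
  exact level (subs := H35.TCE6D5.subs) (fun H hH => H35.TCE6D5.main hinv hrel.1 hrel.2 hH) (by decide +kernel) (by
    intro x hx
    fin_cases x
    · exact ⟨.h, rfl⟩
    · exact ⟨.d, rfl⟩
    · exact ⟨.e, rfl⟩
    · exact ⟨.f, rfl⟩
    · exact ⟨.c, rfl⟩
    · exact ⟨.b, rfl⟩
    · exact absurd hx (by decide))
theorem l5 {P' : Type} [Group P'] [Finite P'] {f : X → P'} (hh : C5.Holds f) : Nat.card (Kl f U5) ≤ 320 * Nat.card (Kl f U2) := by
  obtain ⟨hinv, hrel⟩ := CQ.relOK hh (inv := H35.TCD5A2.inv) (mm := H35.TCD5A2.mm) (ex := H35.TCD5A2.extra) (by intro x; cases x <;> decide +kernel)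
    (by intro x y; cases x <;> cases y <;> decide +kernel) (by decide +kernel)
  exact level (subs := H35.TCD5A2.subs) (fun H hH => H35.TCD5A2.main hinv hrel.1 hrel.2 hH) (by decide +kernel) (by
    intro x hx
    fin_cases x
    · exact ⟨.h, rfl⟩
    · exact ⟨.d, rfl⟩
    · exact ⟨.e, rfl⟩
    · exact absurd hx (by decide)
    · exact ⟨.c, rfl⟩
    · exact ⟨.b, rfl⟩
    · exact absurd hx (by decide))
theorem l3 {P' : Type} [Group P'] [Finite P'] {f : X → P'} (hh : C3.Holds f) : Nat.card (Kl f U2) ≤ 6 * Nat.card (Kl f U0) := by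
  obtain ⟨hinv, hrel⟩ := CQ.relOK hh (inv := H35.TCDih3.inv) (mm := H35.TCDih3.mm) (ex := H35.TCDih3.extra) (by intro x; cases x <;> decide +kernel)
    (by intro x y; cases x <;> cases y <;> decide +kernel) (by decide +kernel)
  exact level (subs := H35.TCDih3.subs) (fun H hH => H35.TCDih3.main hinv hrel.1 hrel.2 hH) (by decide +kernel) (by
    intro x hx
    fin_cases x
    · exact absurd hx (by decide)
    · exact absurd hx (by decide)
    · exact absurd hx (by decide)
    · exact absurd hx (by decide)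
    · exact ⟨.c, rfl⟩
    · exact ⟨.b, rfl⟩
    · exact absurd hx (by decide))

theorem htO : ∀ r ∈ rulesO, ∀ w ∈ r.needs, ev g w = 1 := by
  have h : ((rulesO.flatMap RR.needs).all fun w => isOne 6 64 (evc 6 64 code code w)) = true := by decide +kernel
  intro r hr w hw
  exact tr (List.all_eq_true.1 h w (List.mem_flatMap.2 ⟨r, hr, hw⟩))

theorem ord2 (x : X) : g x ^ nn x = 1 := by
  have h : ∀ x : X, isOne 6 64 (evc 6 64 code code [(x, true), (x, true)]) = true := by decide +kernel
  have h1 := tr (h x)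
  change g x * (g x * 1) = 1 at h1
  rw [mul_one] at h1
  change g x ^ 2 = 1
  rw [pow_two, h1]

theorem gen7 : Kl g U7 = ⊤ := by
  rw [Kl_all_of (by decide)]
  exact gen

theorem bound3 (Γ : Type) [Group Γ] [Finite Γ] (σ : Γ →* S) (f : X → Γ) (h : Lifts σ 3 nn g f) :
    Nat.card (Kl f U7) ≤ 2903040 := by
  have hp : PL σ 3 nn iv g f := PL.of_lifts h (fun _ _ => rfl)
  have a := l7 (PL.holdsQ (C := C7) (rules := rulesO) (Gv := []) hp (by simp) (Inj.none _ (fun _ => rfl)) rfl (by decide +kernel) htO (by intro z hz; cases hz))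
  have b := l6 (PL.holdsQ (C := C6) (rules := rulesO) (Gv := []) hp (by simp) (Inj.none _ (fun _ => rfl)) rfl (by decide +kernel) htO (by intro z hz; cases hz))
  have c := l5 (PL.holdsQ (C := C5) (rules := rulesO) (Gv := []) hp (by simp) (Inj.none _ (fun _ => rfl)) rfl (by decide +kernel) htO (by intro z hz; cases hz))
  have d := l3 (PL.holdsQ (C := C3) (rules := rulesO) (Gv := []) hp (by simp) (Inj.none _ (fun _ => rfl)) rfl (by decide +kernel) htO (by intro z hz; cases hz))
  have e : Nat.card (Kl f U0) ≤ 1 := by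
    have h0 : Kl f U0 = ⊥ := by
      rw [eq_bot_iff, Kl, Subgroup.closure_le]
      rintro _ ⟨x, hx, rfl⟩
      exact absurd hx (by revert x; decide)
    rw [h0, Subgroup.card_bot]
  omega

theorem noExt3 : NoExt S 3 := noExt_of_bound (q := 3) (by norm_num) ord2 (by decide) gen7 bound3 (by rw [card_S]; norm_num)

theorem mult : Cfsg.HasCyclicSchurMultiplier S 2 := by
  refine hasCyclic_list (by norm_num) ex [(2, 9), (3, 4), (5, 1), (7, 1)] (by decide +kernel) (by rw [card_S]; norm_num) ?_
  intro a ha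
  fin_cases ha
  · exact Or.inr (Or.inr ⟨noExt4, by decide +kernel⟩)
  · exact Or.inl noExt3
  all_goals exact Or.inr (Or.inl (by rw [card_S]; norm_num))

end H34.MulSp6
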