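import Mathlib
import Cfsg.Prelude.Def_Classical
import Cfsg.Agent.Lib.H34.IsoRow
import Cfsg.Agent.Lib.H34.MPt
import Cfsg.Agent.Lib.H34.MRule
import Cfsg.Agent.Lib.H17.SmallOrth
import Cfsg.Agent.Lib.H50.OrthEven
import Cfsg.Agent.Lib.H7.OmegaIso
import Cfsg.Agent.S0293
import Cfsg.Agent.S0296

/-!
# `Ω₈⁺(2)` generated by eight products of two reflections
-/

set_option autoImplicit false
set_option maxRecDepth 100000
set_option maxHeartbeats 400000
set_option linter.all false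

namespace H34.O8

open Matrix H34.IsoRow H35.Stem H34.MK H40.PermCode
open scoped commutatorElement

abbrev ix8 := Fin 4 ⊕ Fin 4
abbrev F2 := ZMod 2
abbrev VV := ix8 → F2
abbrev Q : VV → F2 := Cfsg.quadFormPlus 4 F2
abbrev I := Cfsg.isometryGroup F2 Q

/-- the polar form -/
def Bf (x y : VV) : F2 := ∑ i : Fin 4, (x (.inl i) * y (.inr i) + x (.inr i) * y (.inl i))

theorem Q_eq (x : VV) : Q x = ∑ i : Fin 4, x (.inl i) * x (.inr i) := rfl

theorem Q_add (x y : VV) : Q (x + y) = Q x + Q y + Bf x y := by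
  simp only [Q_eq, Bf, Pi.add_apply, Fin.sum_univ_four]; ring

theorem Bf_add_left (x y z : VV) : Bf (x + y) z = Bf x z + Bf y z := by
  simp only [Bf, Pi.add_apply, Fin.sum_univ_four]; ring

theorem Bf_smul_left (c : F2) (x z : VV) : Bf (c • x) z = c * Bf x z := by
  simp only [Bf, Pi.smul_apply, smul_eq_mul, Fin.sum_univ_four]; ring

theorem Bf_comm (x y : VV) : Bf x y = Bf y x := by
  simp only [Bf, Fin.sum_univ_four]; ring

theorem two : (2 : F2) = 0 := by decide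

theorem Bf_self (x : VV) : Bf x x = 0 := by
  simp only [Bf, Fin.sum_univ_four]
  linear_combination (x (.inl 0) * x (.inr 0) + x (.inl 1) * x (.inr 1) + x (.inl 2) * x (.inr 2) + x (.inl 3) * x (.inr 3)) * two

theorem Q_smul (c : F2) (x : VV) : Q (c • x) = c ^ 2 * Q x := by
  simp only [Q_eq, Pi.smul_apply, smul_eq_mul, Fin.sum_univ_four]; ring

theorem Bf_smul_right (c : F2) (x z : VV) : Bf x (c • z) = c * Bf x z := by
  rw [Bf_comm, Bf_smul_left, Bf_comm]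

/-- the linear map `x ↦ x + B(x,v) v` -/
def tl (v : VV) : VV →ₗ[F2] VV where
  toFun x := x + Bf x v • v
  map_add' x y := by rw [Bf_add_left]; module
  map_smul' c x := by simp only [Bf_smul_left, RingHom.id_apply]; module

theorem tl_apply (v x : VV) : tl v x = x + Bf x v • v := rfl

theorem tl_tl (v : VV) (x : VV) : tl v (tl v x) = x := by
  rw [tl_apply, tl_apply, Bf_add_left, Bf_smul_left, Bf_self, mul_zero, add_zero, add_assoc, ← add_smul]
  have : Bf x v + Bf x v = 0 := by linear_combination (Bf x v) * two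
  rw [this, zero_smul, add_zero]

theorem Q_tl {v : VV} (hv : Q v = 1) (x : VV) : Q (tl v x) = Q x := by
  rw [tl_apply, Q_add, Q_smul, Bf_smul_right, hv]
  linear_combination (Bf x v) ^ 2 * two

/-- matrices act on vectors -/
def act (g : I) (x : VV) : VV := ((g : GeneralLinearGroup ix8 F2) : Matrix ix8 ix8 F2) *ᵥ x

theorem act_one (x : VV) : act 1 x = x := by simp [act]

theorem act_mul (g h : I) (x : VV) : act (g * h) x = act g (act h x) := by
  simp [act, Matrix.mulVec_mulVec]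

theorem act_add (g : I) (x y : VV) : act g (x + y) = act g x + act g y := Matrix.mulVec_add ..

theorem act_smul (g : I) (c : F2) (x : VV) : act g (c • x) = c • act g x := Matrix.mulVec_smul ..

theorem act_inv_act (g : I) (x : VV) : act g⁻¹ (act g x) = x := by
  rw [← act_mul, inv_mul_cancel, act_one]

theorem act_act_inv (g : I) (x : VV) : act g (act g⁻¹ x) = x := by
  rw [← act_mul, mul_inv_cancel, act_one]

theorem ext_single {g h : I} (H : ∀ i, act g (Pi.single i 1) = act h (Pi.single i 1)) : g = h := by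
  apply Subtype.ext
  apply Units.ext
  apply Matrix.ext_of_mulVec_single
  intro i
  exact H i

theorem ext {g h : I} (H : ∀ x, act g x = act h x) : g = h := ext_single fun _ => H _

theorem Q_act (g : I) (x : VV) : Q (act g x) = Q x := by
  have := g.2
  exact this x x

theorem Bf_act (g : I) (x y : VV) : Bf (act g x) (act g y) = Bf x y := by
  have h1 := Q_add (act g x) (act g y)
  rw [← act_add, Q_act, Q_act, Q_act, Q_add] at h1
  linear_combination -h1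

/-- the isometry with a given involutive linear map -/
def mk (f : VV →ₗ[F2] VV) (h : ∀ x, f (f x) = x) (hQ : ∀ x, Q (f x) = Q x) : I :=
  ⟨⟨LinearMap.toMatrix' f, LinearMap.toMatrix' f,
    by rw [← LinearMap.toMatrix'_comp, show f.comp f = LinearMap.id from LinearMap.ext h, LinearMap.toMatrix'_id],
    by rw [← LinearMap.toMatrix'_comp, show f.comp f = LinearMap.id from LinearMap.ext h, LinearMap.toMatrix'_id]⟩, by
    intro u _
    change Q (LinearMap.toMatrix' f *ᵥ u) = Q u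
    rw [← Matrix.toLin'_apply, Matrix.toLin'_toMatrix', hQ]⟩

theorem act_mk (f : VV →ₗ[F2] VV) (h : ∀ x, f (f x) = x) (hQ : ∀ x, Q (f x) = Q x) (x : VV) :
    act (mk f h hQ) x = f x := by
  change LinearMap.toMatrix' f *ᵥ x = f x
  rw [← Matrix.toLin'_apply, Matrix.toLin'_toMatrix']

/-- reflection -/
def T (v : VV) (hv : Q v = 1) : I := mk (tl v) (tl_tl v) (Q_tl hv)

theorem act_T (v : VV) (hv : Q v = 1) (x : VV) : act (T v hv) x = x + Bf x v • v := act_mk _ _ _ _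

theorem conj_T (g : I) (v : VV) (hv : Q v = 1) :
    g * T v hv * g⁻¹ = T (act g v) (by rw [Q_act, hv]) := by
  apply ext
  intro x
  rw [act_mul, act_mul, act_T, act_T, act_add, act_smul, act_act_inv]
  have h : Bf (act g⁻¹ x) v = Bf x (act g v) := by
    rw [← Bf_act g, act_act_inv]
  rw [h]

theorem T_sq (v : VV) (hv : Q v = 1) : T v hv * T v hv = 1 := by
  apply ext
  intro x
  rw [act_mul, act_one]
  have := tl_tl v x
  rw [act_T, act_T]
  exact this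

theorem T_inv (v : VV) (hv : Q v = 1) : (T v hv)⁻¹ = T v hv := inv_eq_of_mul_eq_one_left (T_sq v hv)

theorem T_congr {v w : VV} (h : v = w) (hv : Q v = 1) (hw : Q w = 1) : T v hv = T w hw := by
  subst h; rfl

/-- numbering of the vectors -/
def ix (v : VV) : ℕ := (v (.inl 0)).val + 2 * (v (.inl 1)).val + 4 * (v (.inl 2)).val + 8 * (v (.inl 3)).val +
  16 * (v (.inr 0)).val + 32 * (v (.inr 1)).val + 64 * (v (.inr 2)).val + 128 * (v (.inr 3)).val
def vt (n : ℕ) : VV := Sum.elim ![((n % 2 : ℕ) : ZMod 2), ((n / 2 % 2 : ℕ) : ZMod 2), ((n / 4 % 2 : ℕ) : ZMod 2), ((n / 8 % 2 : ℕ) : ZMod 2)]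
  ![((n / 16 % 2 : ℕ) : ZMod 2), ((n / 32 % 2 : ℕ) : ZMod 2), ((n / 64 % 2 : ℕ) : ZMod 2), ((n / 128 % 2 : ℕ) : ZMod 2)]

def E256 : Coding VV 256 where
  idx := ix
  pt := vt
  idx_lt := by decide +kernel
  pt_idx := by decide +kernel
  idx_pt := by decide +kernel

def av : Fin 8 → VV := ![vt 34, vt 202, vt 35, vt 17, vt 68, vt 200, vt 238, vt 76]
def bv : Fin 8 → VV := ![vt 136, vt 136, vt 136, vt 136, vt 136, vt 136, vt 136, vt 143]
def dv : VV := vt 136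
theorem Qa : ∀ x, Q (av x) = 1 := by decide +kernel
theorem Qb : ∀ x, Q (bv x) = 1 := by decide +kernel
theorem Qd : Q dv = 1 := by decide +kernel
theorem Bab : ∀ x, Bf (av x) (bv x) = 0 := by decide +kernel

/-- the letters -/
def lt (x : Fin 8) : I := T (av x) (Qa x) * T (bv x) (Qb x)

/-- reflection in `dv` -/
def D : I := T dv Qd

/-- codes of the letters -/
def code : Fin 8 → ℕ := ![0xfffedfdefbfadbda7f7e5f5e7b7a5b5aefeecfceebeacbca6f6e4f4e6b6a4b4afdfcdddcf9f8d9d87d7c5d5c79785958edeccdcce9e8c9c86d6c4d4c69684948bfbe9f9ebbba9b9a3f3e1f1e3b3a1b1aafae8f8eabaa8b8a2f2e0f0e2b2a0b0abdbc9d9cb9b899983d3c1d1c39381918adac8d8ca9a889882d2c0d0c29280908f7f6d7d6f3f2d3d27776575673725352e7e6c7c6e3e2c3c26766474663624342f5f4d5d4f1f0d1d07574555471705150e5e4c5c4e1e0c1c06564454461604140b7b69796b3b293923736171633321312a7a68786a3a283822726070623220302b5b49594b1b091903534151431301110a5a48584a1a081802524050421200100, 0xfffefdf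c31303332b5b4b7b67b7a7978efeeedec21202322a5a4a7a66b6a696815141716dbdad9d85f5e5d5c9190939205040706cbcac9c84f4e4d4c81808382bfbebdbc71707372f5f4f7f63b3a3938afaeadac61606362e5e4e7e62b2a2928555457569b9a99981f1e1d1cd1d0d3d2454447468b8a89880f0e0d0cc1c0c3c23d3c3f3ef3f2f1f077767574b9b8bbba2d2c2f2ee3e2e1e067666564a9a8abaad7d6d5d419181b1a9d9c9f9e53525150c7c6c5c409080b0a8d8c8f8e434241407d7c7f7eb3b2b1b037363534f9f8fbfa6d6c6f6ea3a2a1a027262524e9e8ebea9796959459585b5adddcdfde131211108786858449484b4acdcccfce03020100, 0xdcddfdfcd8d9f9f85c5d7d7c58597978efeececfebeacacb6f6e4e4f6b6a4a4bdfdefeffdbdafafb5f5e7e7f5b5a7a7becedcdcce8e9c9c86c6d4d4c686949489c9dbdbc9899b9b81c1d3d3c18193938afae8e8fabaa8a8b2f2e0e0f2b2a0a0b9f9ebebf9b9ababb1f1e3e3f1b1a3a3bacad8d8ca8a989882c2d0d0c28290908d4d5f5f4d0d1f1f05455757450517170e7e6c6c7e3e2c2c36766464763624243d7d6f6f7d3d2f2f35756767753527273e4e5c5c4e0e1c1c064654544606141409495b5b49091b1b01415353410113130a7a68687a3a2828327260607232202039796b6b79392b2b31716363713123233a4a58584a0a181802425050420210100,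 0xffeffdedfbebf9e97f6f7d6d7b6b7969feeefcecfaeaf8e87e6e7c6c7a6a7868dfcfddcddbcbd9c95f4f5d4d5b4b5949decedcccdacad8c85e4e5c4c5a4a5848bfafbdadbbabb9a93f2f3d2d3b2b3929beaebcacbaaab8a83e2e3c2c3a2a38289f8f9d8d9b8b99891f0f1d0d1b0b19099e8e9c8c9a8a98881e0e1c0c1a0a1808f7e7f5e5f3e3f1e17767756573637161f6e6f4e4f2e2f0e07666746472627060d7c7d5c5d3c3d1c15747554553435141d6c6d4c4d2c2d0c05646544452425040b7a7b5a5b3a3b1a13727352533233121b6a6b4a4b2a2b0a036263424322230209787958593839181170715051303110196869484928290801606140412021000, 0xfffefdfcbfbebdbc7f7e7d7c3f3e3d3cefeeedecafaeadac6f6e6d6c2f2e2d2cdfdedddc9f9e9d9c5f5e5d5c1f1e1d1ccfcecdcc8f8e8d8c4f4e4d4c0f0e0d0cfbfaf9f8bbbab9b87b7a79783b3a3938ebeae9e8abaaa9a86b6a69682b2a2928dbdad9d89b9a99985b5a59581b1a1918cbcac9c88b8a89884b4a49480b0a0908f7f6f5f4b7b6b5b47776757437363534e7e6e5e4a7a6a5a46766656427262524d7d6d5d4979695945756555417161514c7c6c5c4878685844746454407060504f3f2f1f0b3b2b1b07372717033323130e3e2e1e0a3a2a1a06362616023222120d3d2d1d0939291905352515013121110c3c2c1c0838281804342414003020100,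 0x37363534fbfaf9f87f7e7d7cb3b2b1b027262524ebeae9e86f6e6d6ca3a2a1a017161514dbdad9d85f5e5d5c9392919007060504cbcac9c84f4e4d4c8382818077767574bbbab9b83f3e3d3cf3f2f1f067666564abaaa9a82f2e2d2ce3e2e1e0575655549b9a99981f1e1d1cd3d2d1d0474645448b8a89880f0e0d0cc3c2c1c0f7f6f5f43b3a3938bfbebdbc73727170e7e6e5e42b2a2928afaeadac63626160d7d6d5d41b1a19189f9e9d9c53525150c7c6c5c40b0a09088f8e8d8c43424140b7b6b5b47b7a7978fffefdfc33323130a7a6a5a46b6a6968efeeedec23222120979695945b5a5958dfdedddc13121110878685844b4a4948cfcecdcc03020100, 0xfffe13121514f9f891907d7c7b7a9796efee03020504e9e881806d6c6b6a87863130dddcdbda37365f5eb3b2b5b459582120cdcccbca27264f4ea3a2a5a449485150bdbcbbba57563f3ed3d2d5d439384140adacabaa47462f2ec3c2c5c429289f9e737275749998f1f01d1c1b1af7f68f8e636265648988e1e00d0c0b0ae7e61918f5f4f3f21f1e77769b9a9d9c71700908e5e4e3e20f0e67668b8a8d8c6160d7d63b3a3d3cd1d0b9b855545352bfbec7c62b2a2d2cc1c0a9a845444342afaeb7b65b5a5d5cb1b0d9d835343332dfdea7a64b4a4d4ca1a0c9c825242322cfce7978959493927f7e1716fbfafdfc11106968858483826f6e0706ebeaedec0100,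 0x3c3d3e3f74757677bbbab9b8f3f2f1f0a3a2a1a0ebeae9e8242526276c6d6e6f93929190dbdad9d8141516175c5d5e5f0c0d0e0f444546478b8a8988c3c2c1c0bfbebdbcf7f6f5f438393a3b707172732021222368696a6ba7a6a5a4efeeedec1011121358595a5b97969594dfdedddc8f8e8d8cc7c6c5c408090a0b404142437f7e7d7c37363534f8f9fafbb0b1b2b3e0e1e2e3a8a9aaab676665642f2e2d2cd0d1d2d398999a9b575655541f1e1d1c4f4e4d4c07060504c8c9cacb80818283fcfdfeffb4b5b6b77b7a797833323130636261602b2a2928e4e5e6e7acadaeaf535251501b1a1918d4d5d6d79c9d9e9fcccdcecf848586874b4a494803020100]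
def codeD : ℕ := 0xfffefdfcfbfaf9f87f7e7d7c7b7a7978efeeedecebeae9e86f6e6d6c6b6a6968dfdedddcdbdad9d85f5e5d5c5b5a5958cfcecdcccbcac9c84f4e4d4c4b4a4948bfbebdbcbbbab9b83f3e3d3c3b3a3938afaeadacabaaa9a82f2e2d2c2b2a29289f9e9d9c9b9a99981f1e1d1c1b1a19188f8e8d8c8b8a89880f0e0d0c0b0a0908f7f6f5f4f3f2f1f07776757473727170e7e6e5e4e3e2e1e06766656463626160d7d6d5d4d3d2d1d05756555453525150c7c6c5c4c3c2c1c04746454443424140b7b6b5b4b3b2b1b03736353433323130a7a6a5a4a3a2a1a027262524232221209796959493929190171615141312111087868584838281800706050403020100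

theorem ix_lt (x : Fin 8) (v : VV) : ix (act (lt x) v) = tab 8 (code x) (ix v) := by
  have h : ∀ x : Fin 8, ∀ v : VV, ix ((v + Bf v (bv x) • bv x) + Bf (v + Bf v (bv x) • bv x) (av x) • av x) = tab 8 (code x) (ix v) := by
    intro x; fin_cases x <;> decide +kernel
  rw [lt, act_mul, act_T, act_T]
  exact h x v

theorem ix_D (v : VV) : ix (act D v) = tab 8 codeD (ix v) := by
  have h : ∀ v : VV, ix (v + Bf v dv • dv) = tab 8 codeD (ix v) := by decide +kernel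
  rw [D, act_T]
  exact h v

/-- image of a number under a list of letters -/
def fl (l : List (Fin 8)) (k : ℕ) : ℕ := l.foldr (fun x k => tab 8 (code x) k) k

theorem ix_list (l : List (Fin 8)) (v : VV) : ix (act ((l.map lt).prod) v) = fl l (ix v) := by
  induction l with
  | nil => simp [act_one, fl]
  | cons x l ih =>
    rw [List.map_cons, List.prod_cons, act_mul, ix_lt, ih]
    rfl

theorem ix_inj {v w : VV} (h : ix v = ix w) : v = w := E256.idx_injective h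

/-- the group -/
abbrev KI : Subgroup I := Subgroup.closure (Set.range lt)

theorem lt_mem (x : Fin 8) : lt x ∈ KI := Subgroup.subset_closure ⟨x, rfl⟩

theorem list_mem (l : List (Fin 8)) : (l.map lt).prod ∈ KI := by
  induction l with
  | nil => exact KI.one_mem
  | cons x l ih => rw [List.map_cons, List.prod_cons]; exact KI.mul_mem (lt_mem x) ih

/-- words for the conjugates by `D` -/
def wx : Fin 8 → List (Fin 8) := ![[0], [1], [2], [3], [4], [5], [6], [0, 1, 0, 7, 0, 1, 0]]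

theorem D_conj (x : Fin 8) : D * lt x * D = ((wx x).map lt).prod := by
  have h : ∀ x : Fin 8, ∀ n : Fin 256, tab 8 codeD (tab 8 (code x) (tab 8 codeD n.val)) = fl (wx x) n.val := by
    intro x; fin_cases x <;> decide +kernel
  apply ext
  intro v
  apply ix_inj
  rw [act_mul, act_mul, ix_D, ix_lt, ix_D, ix_list]
  exact h x ⟨ix v, E256.idx_lt v⟩

theorem D_inv : D⁻¹ = D := T_inv _ _

theorem D_norm {k : I} (hk : k ∈ KI) : D * k * D ∈ KI := by
  induction hk using Subgroup.closure_induction with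
  | mem x hx =>
    obtain ⟨y, rfl⟩ := hx
    rw [D_conj]
    exact list_mem _
  | one =>
    have : D * 1 * D = 1 := by rw [mul_one]; exact T_sq _ _
    rw [this]; exact KI.one_mem
  | mul x y _ _ hx hy =>
    have : D * (x * y) * D = (D * x * D) * (D * y * D) := by
      have h2 : D * D = 1 := T_sq _ _
      calc D * (x * y) * D = D * x * 1 * y * D := by group
        _ = D * x * (D * D) * y * D := by rw [h2]
        _ = _ := by group
    rw [this]; exact KI.mul_mem hx hy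
  | inv x _ hx =>
    have : D * x⁻¹ * D = (D * x * D)⁻¹ := by
      rw [_root_.mul_inv_rev, _root_.mul_inv_rev, D_inv, mul_assoc]
    rw [this]; exact KI.inv_mem hx

/-- paths from `dv` -/
def path : Fin 256 → List (Fin 8) := ![[], [], [], [], [], [], [], [], [], [], [], [], [], [], [], [], [], [7, 5, 6, 3, 7, 5, 6, 0, 7], [], [7, 6, 3, 1, 7, 5, 6, 0, 7], [], [7, 3, 1, 0, 7, 5, 6, 7], [], [5, 1, 7, 3, 1, 0, 7, 5, 6, 7], [], [5, 7, 3, 0, 7, 5, 6, 0, 7], [], [1, 7, 3, 0, 7, 5, 6, 0, 7], [], [2, 3, 1, 7, 5, 6, 7], [], [6, 5, 7, 3, 1, 7, 5, 6, 7], [], [], [7, 5, 6, 0, 7, 5, 6, 0, 7], [7, 5, 6, 2, 7, 5, 6, 0, 7], [], [], [5, 7, 6, 7], [7, 1, 4, 5, 6, 0, 7], [], [], [6, 0, 7], [5, 0, 7, 1, 4, 5, 6, 7], [], [], [4, 5, 6, 7], [1, 7, 5, 6, 7], [], [1, 7, 6, 3, 0, 7, 5, 6, 0, 7], [3, 7, 5, 6, 2, 7, 5, 6, 0, 7], [], [], [5, 7, 3, 0, 1, 7, 5, 6, 7], [3, 7, 1, 4, 5, 6, 0, 7], [], [], [7, 3, 1, 7, 5, 6, 7], [5, 3, 7,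 1, 4, 5, 6, 7], [], [], [7, 5, 3, 7, 1, 4, 5, 6, 0, 7], [3, 0, 1, 7, 5, 6, 7], [], [], [], [], [], [5, 6, 7, 4, 5, 6, 7], [5, 6, 1, 7, 5, 6, 0, 7], [6, 1, 7, 4, 5, 6, 7], [6, 7, 5, 6, 0, 7], [], [], [], [], [0, 7], [6, 5, 0, 7, 1, 4, 5, 6, 7], [1, 2, 7, 5, 6, 7], [1, 0, 7, 5, 6, 7], [], [2, 3, 1, 7, 5, 6, 0, 7], [], [7, 6, 5, 7, 3, 1, 7, 5, 6, 7], [5, 6, 3, 1, 7, 5, 6, 0, 7], [], [6, 3, 7, 5, 6, 0, 7], [], [], [7, 3, 0, 7, 5, 6, 0, 7], [], [5, 1, 7, 3, 0, 7, 5, 6, 0, 7], [6, 5, 3, 7, 1, 4, 5, 6, 7], [], [3, 0, 7, 5, 6, 7], [], [], [], [7, 4, 5, 6, 7], [1, 7, 5, 6, 0, 7], [6, 2, 7, 5, 6, 0, 7], [6, 0, 7, 5, 6, 0, 7], [], [], [], [], [5, 6, 0, 7], [0, 7, 1, 4, 5, 6, 7], [1, 4, 5, 6, 7], [7, 5, 6, 7], [], [], [], [7, 5, 3, 0, 7, 1, 4, 5, 6, 7], [3, 1, 7, 5, 6, 0, 7], [], [6, 3, 0, 7, 5, 6, 0, 7], [], [], [5, 6, 2, 3, 1, 7, 5, 6, 0, 7], [], [5, 7, 3, 1, 7, 5, 6, 7], [3, 7, 1, 4, 5, 6, 7], [], [2, 3, 7, 5, 6,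 7], [], [], [6, 5, 7, 3, 0, 7, 5, 6, 0, 7], [], [], [], [], [], [], [], [], [], [7, 6, 5, 7, 1, 4, 5, 6, 7], [2, 7, 5, 6, 0, 7], [0, 7, 5, 6, 0, 7], [6, 7, 4, 5, 6, 7], [6, 1, 7, 5, 6, 0, 7], [5, 6, 1, 7, 4, 5, 6, 7], [5, 6, 7, 5, 6, 0, 7], [], [5, 7, 3, 0, 7, 5, 6, 7], [], [1, 7, 3, 0, 7, 5, 6, 7], [], [2, 3, 0, 1, 7, 5, 6, 7], [], [6, 5, 7, 3, 1, 7, 5, 6, 0, 7], [3, 7, 6, 5, 7, 1, 4, 5, 6, 7], [], [3, 0, 7, 5, 6, 0, 7], [], [6, 3, 1, 7, 5, 6, 0, 7], [], [5, 6, 3, 7, 5, 6, 0, 7], [], [], [], [6, 7], [5, 7, 1, 4, 5, 6, 7], [], [], [4, 5, 6, 0, 7], [0, 1, 7, 5, 6, 7], [1, 7, 4, 5, 6, 7], [7, 5, 6, 0, 7], [], [], [5, 6, 2, 7, 5, 6, 0, 7], [5, 6, 0, 7, 5, 6, 0, 7], [], [], [], [7, 3, 1, 7, 5, 6, 0, 7], [5, 3, 0, 7, 1, 4, 5, 6, 7], [], [], [7, 5, 3, 7, 1, 4, 5, 6, 7], [3, 1, 7, 5, 6, 7], [], [3, 7, 5, 6, 0, 7], [], [], [7, 6, 5, 7, 3, 0, 7, 5, 6, 7], [5, 6, 3, 0, 7, 5, 6, 0, 7], [], [], [6, 2, 3, 1, 7, 5, 6,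 0, 7], [], [], [], [], [7], [6, 5, 7, 1, 4, 5, 6, 7], [2, 7, 5, 6, 7], [0, 7, 5, 6, 7], [6, 5, 7, 6, 7], [6, 7, 1, 4, 5, 6, 0, 7], [7, 5, 6, 1, 7, 5, 6, 0, 7], [4, 5, 6, 7, 5, 6, 0, 7], [], [], [], [], [], [7, 3, 0, 7, 5, 6, 7], [], [5, 1, 7, 3, 0, 7, 5, 6, 7], [6, 5, 3, 0, 7, 1, 4, 5, 6, 7], [], [3, 1, 0, 7, 5, 6, 7], [], [6, 3, 7, 1, 4, 5, 6, 0, 7], [], [4, 5, 6, 3, 7, 5, 6, 0, 7], [], [], [5, 7, 3, 1, 0, 7, 5, 6, 7], [], [1, 7, 3, 1, 0, 7, 5, 6, 7], [], [], [5, 6, 7], [7, 1, 4, 5, 6, 7], [1, 4, 5, 6, 0, 7], [4, 7, 5, 6, 7], [], [], [4, 5, 6, 2, 7, 5, 6, 0, 7], [4, 5, 6, 0, 7, 5, 6, 0, 7], [], [], [], [], [7, 6, 7], [5, 7, 1, 4, 5, 6, 0, 7], [], [5, 7, 3, 1, 7, 5, 6, 0, 7], [3, 0, 7, 1, 4, 5, 6, 7], [], [3, 7, 5, 6, 7], [], [], [6, 5, 7, 3, 0, 7, 5, 6, 7], [4, 5, 6, 3, 0, 7, 5, 6, 0, 7], [], [], [7, 6, 3, 0, 7, 5, 6, 0, 7], [], [7, 3, 0, 1, 7, 5, 6, 7], [5, 3, 7, 1, 4, 5, 6, 0, 7], []]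

theorem path_spec : ∀ n : Fin 256, Q (vt n.val) = 1 → fl (path n) 136 = n.val := by decide +kernel

theorem ix_dv : ix dv = 136 := by decide +kernel

theorem exists_path {v : VV} (hv : Q v = 1) : ∃ h ∈ KI, act h dv = v := by
  refine ⟨((path ⟨ix v, E256.idx_lt v⟩).map lt).prod, list_mem _, ?_⟩
  apply ix_inj
  rw [ix_list, ix_dv]
  refine path_spec ⟨ix v, E256.idx_lt v⟩ ?_
  change Q (vt (ix v)) = 1
  rw [show vt (ix v) = v from E256.pt_idx v, hv]

theorem TD_mem {v : VV} (hv : Q v = 1) : T v hv * D ∈ KI := by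
  obtain ⟨h, hh, he⟩ := exists_path hv
  have h1 := conj_T h dv Qd
  rw [T_congr he _ hv] at h1
  have h2 : T v hv * D = h * (D * h⁻¹ * D) := by
    rw [← h1]
    change h * D * h⁻¹ * D = _
    simp only [mul_assoc]
  rw [h2]
  exact KI.mul_mem hh (D_norm (KI.inv_mem hh))

theorem TT_mem {v w : VV} (hv : Q v = 1) (hw : Q w = 1) : T v hv * T w hw ∈ KI := by
  have h1 : T v hv * T w hw = (T v hv * D) * (T w hw * D)⁻¹ := by
    rw [_root_.mul_inv_rev, D_inv, T_inv]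
    have h2 : D * D = 1 := T_sq _ _
    calc T v hv * T w hw = T v hv * 1 * T w hw := by rw [mul_one]
      _ = T v hv * (D * D) * T w hw := by rw [h2]
      _ = _ := by simp only [mul_assoc]
  rw [h1]
  exact KI.mul_mem (TD_mem hv) (KI.inv_mem (TD_mem hw))

theorem conj_mem (g : I) {x : I} (hx : x ∈ KI) : g * x * g⁻¹ ∈ KI := by
  induction hx using Subgroup.closure_induction with
  | mem x hx =>
    obtain ⟨y, rfl⟩ := hx
    have h : g * lt y * g⁻¹ = (g * T (av y) (Qa y) * g⁻¹) * (g * T (bv y) (Qb y) * g⁻¹) := by rw [lt]; group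
    rw [h, conj_T, conj_T]
    exact TT_mem _ _
  | one => rw [mul_one, mul_inv_cancel]; exact KI.one_mem
  | mul x y _ _ hx hy =>
    have : g * (x * y) * g⁻¹ = (g * x * g⁻¹) * (g * y * g⁻¹) := by group
    rw [this]; exact KI.mul_mem hx hy
  | inv x _ hx =>
    have : g * x⁻¹ * g⁻¹ = (g * x * g⁻¹)⁻¹ := by group
    rw [this]; exact KI.inv_mem hx

def cv : Fin 8 → VV := ![vt 27, vt 25, vt 25, vt 43, vt 29, vt 25, vt 25, vt 21]
def ev' : Fin 8 → VV := ![vt 177, vt 91, vt 178, vt 178, vt 209, vt 89, vt 127, vt 214]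
theorem Qc : ∀ x, Q (cv x) = 1 := by decide +kernel
theorem Qe : ∀ x, Q (ev' x) = 1 := by decide +kernel

theorem lt_comm (x : Fin 8) : lt x ∈ commutator I := by
  have h : ∀ x : Fin 8, (av x + Bf (av x) (cv x) • cv x) + Bf (av x + Bf (av x) (cv x) • cv x) (ev' x) • ev' x = bv x := by
    decide +kernel
  have h1 : act (T (ev' x) (Qe x) * T (cv x) (Qc x)) (av x) = bv x := by
    rw [act_mul, act_T, act_T]
    exact h x
  have h2 := conj_T (T (ev' x) (Qe x) * T (cv x) (Qc x)) (av x) (Qa x)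
  rw [T_congr h1 _ (Qb x)] at h2
  have h3 : lt x = ⁅T (av x) (Qa x), T (ev' x) (Qe x) * T (cv x) (Qc x)⁆ := by
    rw [lt, ← h2, commutatorElement_def, T_inv]
    simp only [mul_assoc]
  rw [h3]
  exact Subgroup.commutator_mem_commutator (Subgroup.mem_top _) (Subgroup.mem_top _)

theorem ncomm : lt 0 * lt 1 ≠ lt 1 * lt 0 := by
  intro h
  have h1 := congrArg (fun z => ix (act z (vt 2))) h
  simp only [act_mul, ix_lt] at h1
  revert h1
  decide +kernel

def ajv : Fin 8 → VV := ![vt 34, vt 17, vt 17, vt 17, vt 34, vt 17, vt 17, vt 17]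
def bjv : Fin 8 → VV := ![vt 35, vt 19, vt 21, vt 25, vt 50, vt 49, vt 81, vt 145]
def xjv : Fin 8 → VV := ![vt 2, vt 1, vt 1, vt 1, vt 2, vt 1, vt 1, vt 1]
def sj : Fin 8 → ix8 := ![.inl 0, .inl 1, .inl 2, .inl 3, .inr 0, .inr 1, .inr 2, .inr 3]

theorem jspec : ∀ j : Fin 8, Q (ajv j) = 1 ∧ Q (bjv j) = 1 ∧ Bf (ajv j) (bjv j) = 0 ∧ Bf (xjv j) (ajv j) = 1 ∧
    Bf (xjv j) (bjv j) = 1 ∧ ajv j + bjv j = Pi.single (sj j) 1 ∧ Q (Pi.single (sj j) 1) = 0 := by decide +kernel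

theorem fix_sum {z : I} (hz : ∀ k ∈ KI, z * k = k * z) {a b x : VV} (ha : Q a = 1) (hb : Q b = 1) (hab : Bf a b = 0)
    (hxa : Bf x a = 1) (hxb : Bf x b = 1) (hs : Q (a + b) = 0) (hne : a + b ≠ 0) : act z (a + b) = a + b := by
  have h1 := hz _ (TT_mem ha hb)
  have h2 : z * (T a ha * T b hb) * z⁻¹ = T (act z a) (by rw [Q_act, ha]) * T (act z b) (by rw [Q_act, hb]) := by
    rw [← conj_T z a ha, ← conj_T z b hb]; group
  rw [h1, mul_inv_cancel_right] at h2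
  have h3 := congrArg (fun g => act g x) h2
  simp only [act_mul, act_T] at h3
  rw [Bf_add_left, Bf_smul_left, Bf_add_left, Bf_smul_left, Bf_act, Bf_comm b a, hab, mul_zero, add_zero, mul_zero, add_zero,
    hxa, hxb, one_smul, one_smul, add_assoc, add_assoc, add_right_inj] at h3
  have hza : Q (act z a) = 1 := by rw [Q_act, ha]
  have hzb : Q (act z b) = 1 := by rw [Q_act, hb]
  have hd : ∀ c : F2, c = 0 ∨ c = 1 := by decide
  rcases hd (Bf x (act z a)) with e1 | e1 <;> rcases hd (Bf x (act z b)) with e2 | e2 <;>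
    rw [e1, e2] at h3 <;> simp only [zero_smul, one_smul, add_zero, zero_add] at h3
  · exact absurd (by rw [add_comm]; exact h3) hne
  · rw [← h3, add_comm b a, hs] at hzb
    exact absurd hzb (by decide)
  · rw [← h3, add_comm b a, hs] at hza
    exact absurd hza (by decide)
  · rw [act_add, add_comm a b, add_comm (act z a)]
    exact h3.symm

theorem centralizer_triv {z : I} (hz : ∀ k ∈ KI, z * k = k * z) : z = 1 := by
  apply ext_single
  intro i
  obtain ⟨j, rfl⟩ : ∃ j, sj j = i := by revert i; decide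
  obtain ⟨h1, h2, h3, h4, h5, h6, h7⟩ := jspec j
  rw [act_one, ← h6]
  refine fix_sum hz h1 h2 h3 h4 h5 (by rw [h6]; exact h7) ?_
  rw [h6]
  intro h
  have := congrFun h (sj j)
  rw [Pi.single_eq_same] at this
  exact absurd (show (1 : F2) = 0 from this) (by decide)

/-- the group as a type -/
abbrev GO : Type := KI

def g8 (x : Fin 8) : GO := ⟨lt x, lt_mem x⟩

theorem g8_coe (x : Fin 8) : ((g8 x : GO) : I) = lt x := rfl

theorem g8_ncomm : g8 0 * g8 1 ≠ g8 1 * g8 0 := by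
  intro h
  have h3 := congrArg (fun z : GO => (z : I)) h
  simp only [Subgroup.coe_mul, g8_coe] at h3
  exact ncomm h3

theorem gen8 : Subgroup.closure (Set.range g8) = ⊤ := by
  have h := Subgroup.closure_closure_coe_preimage (k := Set.range lt)
  rw [← h]
  congr 1
  ext ⟨y, hy⟩
  constructor
  · rintro ⟨x, hx⟩
    exact ⟨x, congrArg Subtype.val hx⟩
  · rintro ⟨x, hx⟩
    exact ⟨x, Subtype.ext hx⟩

theorem iso_surj : ∃ θ : GO →* Cfsg.POmega F2 (Cfsg.quadFormPlus 4 F2), Function.Bijective θ ∧ Nat.card GO = 174182400 ∧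
    IsSimpleGroup GO := by
  have hsimp := Cfsg.Agent.S0296.result (F := F2) 4 le_rfl
  have hcard := Cfsg.Agent.S0293.result (F := F2) (q := 2) (ZMod.card 2) 4 le_rfl
  have h9 : (2 : ℕ) ^ (4 * (4 - 1)) * (2 ^ 4 - 1) * ∏ i ∈ Finset.range (4 - 1), (2 ^ (2 * (i + 1)) - 1) = 174182400 := by
    decide +kernel
  have h10 : Nat.gcd 4 (2 ^ 4 - 1) = 1 := by decide +kernel
  have hcard' : Nat.card (Cfsg.POmega F2 (Cfsg.quadFormPlus 4 F2)) = 174182400 := by
    rw [h9, h10, one_mul] at hcard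
    exact hcard
  have hKK : KI ≤ commutator I := by
    rw [Subgroup.closure_le]
    rintro _ ⟨y, rfl⟩
    exact lt_comm y
  let ι : KI →* I := KI.subtype
  have hιr : ι.range = KI := Subgroup.range_subtype KI
  have hcomm : ∀ x, ι x ∈ commutator I := fun x => hKK x.2
  have hsurj := surj_of_normal_image ι hcomm (by
    intro g x
    rw [hιr]
    exact conj_mem g x.2) ⟨⟨lt 0, lt_mem 0⟩, ⟨lt 1, lt_mem 1⟩, ncomm⟩ hsimp
  have hinj : Function.Injective ((QuotientGroup.mk' (Subgroup.center (commutator I))).comp (ι.codRestrict (commutator I) hcomm)) := by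
    rw [injective_iff_map_eq_one]
    intro x hx
    rw [MonoidHom.comp_apply, QuotientGroup.mk'_apply, QuotientGroup.eq_one_iff, Subgroup.mem_center_iff] at hx
    apply Subtype.ext
    apply centralizer_triv
    intro k hk
    exact (congrArg Subtype.val (hx ⟨k, hKK hk⟩)).symm
  refine ⟨_, ⟨hinj, hsurj⟩, ?_, ?_⟩
  · rw [Nat.card_eq_of_bijective _ ⟨hinj, hsurj⟩]
    exact hcard'
  · exact (MulEquiv.isSimpleGroup_congr (MulEquiv.ofBijective _ ⟨hinj, hsurj⟩)).2 hsimp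

theorem card_GO : Nat.card GO = 174182400 := iso_surj.choose_spec.2.1
instance : Finite GO := Nat.finite_of_card_ne_zero (by rw [card_GO]; norm_num)

theorem perf_GO : commutator GO = ⊤ := by
  have hs : IsSimpleGroup GO := iso_surj.choose_spec.2.2
  rcases hs.eq_bot_or_eq_top_of_normal (commutator GO) inferInstance with h | h
  · exfalso
    have h1 : ∀ x y : GO, x * y = y * x := by
      intro x y
      have h2 : ⁅x, y⁆ ∈ commutator GO := Subgroup.commutator_mem_commutator (Subgroup.mem_top _) (Subgroup.mem_top _)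
      rw [h, Subgroup.mem_bot, commutatorElement_eq_one_iff_mul_comm] at h2
      exact h2
    exact g8_ncomm (h1 (g8 0) (g8 1))
  · exact h

/-- `PΩ₈⁺` over any field with two elements -/
theorem iso {F : Type*} [Field F] [Fintype F] (hF : Fintype.card F = 2) :
    Nonempty (Cfsg.POmega F (Cfsg.quadFormPlus 4 F) ≃* GO) := by
  have : Fact (Nat.Prime 2) := ⟨Nat.prime_two⟩
  obtain ⟨σ⟩ := H17.SmallOrth.exists_ringEquiv_zmod (F := F) 2 hF
  obtain ⟨e⟩ := H17.SmallOrth.equiv_isometryGroup σ (Cfsg.quadFormPlus 4 (ZMod 2)) (Cfsg.quadFormPlus 4 F) (by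
    intro v
    simp [Cfsg.quadFormPlus])
  have e1 : Cfsg.POmega (ZMod 2) (Cfsg.quadFormPlus 4 (ZMod 2)) ≃* Cfsg.POmega F (Cfsg.quadFormPlus 4 F) :=
    H7.OmegaIso.quotCenterCongr (H50.OrthEven.comE e)
  obtain ⟨θ, hθ, -⟩ := iso_surj
  exact ⟨((MulEquiv.ofBijective θ hθ).trans e1).symm⟩

/-- action on vectors -/
def actP : GO →* Equiv.Perm VV where
  toFun A := ⟨act A.1, act A.1⁻¹, act_inv_act A.1, act_act_inv A.1⟩
  map_one' := by ext1 v; exact act_one v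
  map_mul' A B := by ext1 v; exact act_mul A.1 B.1 v

theorem rep_c (x : Fin 8) : Rep E256 8 (actP (g8 x)) (code x) := fun v => ix_lt x v

theorem okk : ∀ x, okc 8 256 (code x) (code x) = true := by intro x; fin_cases x <;> decide +kernel

theorem rep_ci (x : Fin 8) : Rep E256 8 (actP (g8 x))⁻¹ (code x) := rep_inv_self (rep_c x) (okk x)

/-- check of a word on the basis -/
noncomputable def chkW (w : W (Fin 8)) : Bool :=
  [1, 2, 4, 8, 16, 32, 64, 128].all fun i => Nat.beq (imp 8 255 (cw code code w) i) i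

theorem sj_ix : ∀ j : Fin 8, ix (Pi.single (sj j) 1) ∈ [1, 2, 4, 8, 16, 32, 64, 128] := by decide +kernel

theorem tr8 {w : W (Fin 8)} (h : chkW w = true) : ev g8 w = 1 := by
  apply Subtype.ext
  apply ext_single
  intro i
  obtain ⟨j, rfl⟩ : ∃ j, sj j = i := by revert i; decide
  apply ix_inj
  have h1 := imp_eq (wd := 8) (mk := 255) (by norm_num) (g := fun x => actP (g8 x)) rep_c rep_ci w (Pi.single (sj j) 1)
  rw [← ev_hom] at h1
  have h2 := List.all_eq_true.1 h _ (sj_ix j)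
  have h3 := Nat.eq_of_beq_eq_true h2
  have h4 : imp 8 255 (cw code code w) (E256.idx (Pi.single (sj j) 1)) = E256.idx (Pi.single (sj j) 1) := h3
  rw [h4] at h1
  exact (h1.symm.trans (congrArg ix (act_one _).symm))

end H34.O8
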