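import Mathlib
import Cfsg.Agent.Lib.H34.U62Fin
import Cfsg.Agent.Lib.H34.MRule
import Cfsg.Agent.Lib.H6.SUGenC

/-! # `U₆(2)`: generators and word checks -/

set_option autoImplicit false
set_option maxRecDepth 100000
set_option linter.all false

namespace H34.U6

open H17 H35.Net H34.F4Code H34.U62 H92.UTransv H92.Herm H34.MK H35.Stem H35.TC

abbrev GP := Cfsg.PSU 6 F4 2

/-- codes of the letters, 12 bits each -/
noncomputable abbrev VC : Nat := nat_lit 0x440ab5b756417a9a99005
noncomputable abbrev DT : Nat := nat_lit 0x63a8a91854940d69319093a9674a509490c03290902d07324e23a8cb59c063a0273a5472a50530ce7494e7325073a1485a54b1a50a39588295094a5275ac493a86a4248629ca72a4e849d6941926424c93a148418a600927581275992a39948418ab511043a48b5accc418ea428c632c6732408518693250451d2a320a1119445ace629d474992331905524a861caa29ce52a10631d03410c6419284912538ce92a527284e7394e8208c92ad033a94449ce9494c741d29530e31a8e059d482190532106328c959ca641508498c84196839ce73ace83a5074a90951d0239547424e82a0a84a8a539c6841cc521d0539ca65112751d494214a3a986320e8394c3390e748d24328454a0e549d033998651527414ea52ce53a90439d28398c8520e94a122415060a0eb29d26620683090612d6a49d070a448098e9428aa4990531cc838d293a08c2a0e4210c8218c8424275252a314cb419072994849d4b120c81a50751d0a394ca29cc35150541d2742c884a52631d4552ca8328e43990a29d0a41d042290841948525275192b21d26325084a52b229062a1083208422924599075152b22546310a9514c82248951cc43a048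
noncomputable abbrev PT : Nat := nat_lit 0x11ea3e660100269a939b9709c62a4484d9681100c2844c6d9300d1ac719ad4a0a27672c0014e7a9f09f001d04f8053fa2fa10c35e43d4d617330e00008f80cafa60d8ad0350c82c1303416409ac4d23617c2e40b03603510e118a8f34e8627840a88298f04a3497d49c428b86907e8b048176185138c4d0a2b41404337ce67216f8a8318904720cf8049824c8d3081bc3095f11c6401d223c8db5819649d0e1c1845a92795c57618fe2a08f000df6f0e04a400110561282b07408294db6c8f24dc530bc8d45cb291883294e64713355de1511623f58018db9200311c1a31747ca30a286491000f33c5b821e304e2618a1165e1c76050b68c3a0929330d104c4744ce1d0dda304a03264a227dcf230c53e072460a64b08c095ad88d240ecb029c14418a61a4ca304603f96d165547191c2e247590bd2b8ca11116aaca8815547017d0117e1a0b5852265fea72dc4c158a993681865d408c54794cf7fd5b0218c2e59518c5c53d3b1822e788d88ecff106a95aa51945b244c00089130845998dcf6642397a098f811174cb78d095442c28c96824f441dc63c2b117599651b37c165190640b1e47a89888a44a642d3293d726252d8d1269ef1edae695e864534328c90511b28e44845a90d4c660c5825e488aa4f164d09e03b711e46dde82d5820bce2999f981c9565cee19691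3f6289090f7bd155a53554976a24da696113f9115ba76410e0359116118b78d9830ca72187b3b6147d60d625eb159ed83d8039c241a1746484c01442758be28458869787818c5b8631719234c602e0b684a75721bc4a880500df3a51a14a19620f371c54451791f65a80a24349189e2813dde32766544a366a28f2ccd0a6279a0613a61aa38268a028e6e92c970e28900b47a2e40927700e46a120238f94209470a80285a0472762f5ce355d5409b5748ff621be2c57392dd6731c252cbe5365a1017f4514b9e8a9a9582302202755f5163e445c358c8ea908e788b15f19c7469416046730c58fc249fdf49ad6d872049d19d506712d07d86db3409956eda76458f4c8af8b46665508a3c2b951bda68d8a2eb09d1c13bdc468033541219f25e9b8f756e6a3d6b42091e7f1337717f5f9cb2f4c954ea35b1f54aa8a98db473545a69b5780af9eca9abe635046d8deaf40d7241dc0691a75fa319369da6ded762aa9260b885ba96ea0805405061c955fa91eaa5ba54aba3e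
noncomputable abbrev XT : Nat := nat_lit 0x1da69492d2bae534949a709b299526b4514b198dc9272eb36756d2494830e75ed91b368251a1a74713c59c88c64d265263368e5630ca013681d5a25641824aa171c51434b2d85432d5111b6d8e10c2f0736ba205464ac0cb22a19582d001a036042cb86d488f6446c0c0ecd05816526b31940cb449193182983485cc14d6d5884b53ab0dc889b4c3301a2b64da0b84c32224919ba6304349533b6dd2e18d9b19a490924aa89da04220b6151904936ba94f6521536485aa16e4724535c94109a2812006b512989876126c603281a988c924c6dd0d981163a6d966b3048c88416100d311ab2aa28c88a0b3150ada650c04d392141d51a74c9d0c956257232293586cca6536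

noncomputable def vcN (i : Nat) : Nat := Nat.land (Nat.shiftRight VC (Nat.mul 12 i)) 4095
noncomputable def vc (x : Fin 7) : Nat := vcN x.val
noncomputable def dN (k : Nat) : Nat := Nat.land (Nat.shiftRight DT (Nat.mul 5 k)) 31
noncomputable def pN (k : Nat) : Nat := Nat.land (Nat.shiftRight PT (Nat.mul 10 k)) 1023
noncomputable def xN (k : Nat) : Nat := Nat.land (Nat.shiftRight XT (Nat.mul 3 k)) 7

theorem vc_iso : ∀ x : Fin 7, hN (vc x) (vc x) = 0 := by
  intro x; fin_cases x <;> decide +kernel

noncomputable def tS (x : Fin 7) : S := T (dc (vc x))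
noncomputable def gU (x : Fin 7) : GP := QuotientGroup.mk' (Subgroup.center S) (tS x)

/-- action of words on codes -/
noncomputable def fW (w : W (Fin 7)) : Nat → Nat :=
  List.rec (motive := fun _ => Nat → Nat) (fun c => c) (fun a _ ih c => force (ih c) fun y => force (vcN a.1.val) fun v => tN v y) w

theorem fW_cons (a : Fin 7 × Bool) (w : W (Fin 7)) (c : Nat) : fW (a :: w) c = tN (vc a.1) (fW w c) := by
  change force (fW w c) (fun y => force (vcN a.1.val) fun v => tN v y) = _
  rw [force_eq, force_eq]; rfl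

theorem el_tS (a : Fin 7 × Bool) : el tS a = tS a.1 := by
  rcases a with ⟨x, b⟩
  cases b
  · exact T_inv hK _
  · rfl

theorem act_ev (w : W (Fin 7)) (c : Nat) : act (ev tS w) (dc c) = dc (fW w c) := by
  induction w generalizing c with
  | nil => rw [ev_nil, act_one]; rfl
  | cons a w ih =>
    rw [ev_cons, act_mul, ih, el_tS, fW_cons]
    exact act_T_dc (vc_iso a.1) _

/-- the word acts as a scalar -/
noncomputable def chkW (w : W (Fin 7)) : Bool :=
  force (fW w 1) fun c => Nat.blt 0 c && (Nat.blt c 4 && (Nat.beq (fW w 4) (Nat.mul c 4) && (Nat.beq (fW w 16) (Nat.mul c 16) &&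
    (Nat.beq (fW w 64) (Nat.mul c 64) && (Nat.beq (fW w 256) (Nat.mul c 256) && Nat.beq (fW w 1024) (Nat.mul c 1024))))))

theorem dc_mul : ∀ c : Fin 4, ∀ i : Fin 6, dc (c.val * 4 ^ i.val) = cf c.val • (Pi.single i 1 : Fin 6 → F4) := by
  decide +kernel

theorem smul_central {s : S} {c : F4} (h : ∀ v : Fin 6 → F4, act s v = c • v) : s ∈ Subgroup.center S := by
  rw [Subgroup.mem_center_iff]
  intro t
  apply act_ext
  intro v
  rw [act_mul, act_mul, h, h, map_smul]

theorem tr6 {w : W (Fin 7)} (h : chkW w = true) : ev gU w = 1 := by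
  rw [chkW, force_eq] at h
  simp only [Bool.and_eq_true] at h
  obtain ⟨-, h1, h2, h3, h4, h5, h6⟩ := h
  obtain ⟨c, hc⟩ : ∃ c, c = fW w 1 := ⟨_, rfl⟩
  rw [← hc] at h1 h2 h3 h4 h5 h6
  have hc4 : c < 4 := by simpa using h1
  have key : ∀ i : Fin 6, fW w (4 ^ i.val) = c * 4 ^ i.val := by
    intro i
    fin_cases i
    · change fW w 1 = c * 1
      rw [mul_one, hc]
    · exact nbeq h2
    · exact nbeq h3
    · exact nbeq h4
    · exact nbeq h5
    · exact nbeq h6
  have hs : ∀ i : Fin 6, act (ev tS w) (Pi.single i 1) = cf c • (Pi.single i 1 : Fin 6 → F4) := by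
    intro i
    have e1 := act_ev w (4 ^ i.val)
    rw [key i] at e1
    have e2 := dc_mul ⟨c, hc4⟩ i
    have e3 := dc_mul 1 i
    have e3' : dc (4 ^ i.val) = (Pi.single i 1 : Fin 6 → F4) := by
      have e4 : ((1 : Fin 4).val * 4 ^ i.val) = 4 ^ i.val := Nat.one_mul _
      rw [e4] at e3
      rw [e3]
      have : cf (1 : Fin 4).val = 1 := by decide +kernel
      rw [this, one_smul]
    rw [e3'] at e1
    rw [e1]
    exact e2
  have hall : ∀ v : Fin 6 → F4, act (ev tS w) v = cf c • v := by
    intro v
    have hv : v = ∑ i, v i • (Pi.single i 1 : Fin 6 → F4) := by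
      ext j
      simp [Finset.sum_apply, Pi.single_apply]
    rw [hv, map_sum, Finset.smul_sum]
    refine Finset.sum_congr rfl fun i _ => ?_
    rw [map_smul, hs, smul_comm]
  have hcen := smul_central hall
  have h7 : ev gU w = QuotientGroup.mk' (Subgroup.center S) (ev tS w) := (ev_hom (QuotientGroup.mk' (Subgroup.center S)) tS w).symm
  rw [h7]
  exact (QuotientGroup.eq_one_iff _).2 hcen

/-- the tree of points -/
noncomputable def chkT (k : Nat) : Bool :=
  Bool.rec (Nat.blt (pN k) 693 && (Nat.blt (dN (pN k)) (dN k) && (Nat.blt (xN k) 7 && simN (tN (vcN (xN k)) (vecN (pN k))) (vecN k))))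
    (Nat.blt (xN k) 7 && simN (vcN (xN k)) (vecN k)) (Nat.beq (dN k) 0)

theorem xT : H34.F4Code.allB chkT 693 = true := by decide +kernel

theorem mem_cl (n : Nat) : ∀ k, k < 693 → dN k = n → T (vec k) ∈ Subgroup.closure (Set.range tS) := by
  induction n using Nat.strong_induction_on with
  | _ n ih =>
    intro k hk hn
    have h := H34.F4Code.allB_spec xT k hk
    rw [chkT] at h
    cases hb : Nat.beq (dN k) 0 with
    | true =>
      rw [hb] at h
      have h' : (Nat.blt (xN k) 7 && simN (vcN (xN k)) (vecN k)) = true := h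
      rw [Bool.and_eq_true] at h'
      have hx : xN k < 7 := by simpa using h'.1
      have hs := simN_spec h'.2
      have e : T (vec k) = tS ⟨xN k, hx⟩ := (T_sim hs (iso_of (vec_iso hk))).symm
      rw [e]
      exact Subgroup.subset_closure ⟨_, rfl⟩
    | false =>
      rw [hb] at h
      have h' : (Nat.blt (pN k) 693 && (Nat.blt (dN (pN k)) (dN k) && (Nat.blt (xN k) 7 && simN (tN (vcN (xN k)) (vecN (pN k))) (vecN k)))) = true := h
      simp only [Bool.and_eq_true] at h'
      obtain ⟨h1, h2, h3, h4⟩ := h'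
      have hp : pN k < 693 := by simpa using h1
      have hd : dN (pN k) < dN k := by simpa using h2
      have hx : xN k < 7 := by simpa using h3
      have hs := simN_spec h4
      have h5 := ih (dN (pN k)) (by omega) (pN k) hp rfl
      have hv := vc_iso ⟨xN k, hx⟩
      have h6 : act (tS ⟨xN k, hx⟩) (vec (pN k)) = dc (tN (vcN (xN k)) (vecN (pN k))) := act_T_dc hv _
      have h7 := conj_T hK (iso_of (vec_iso hp)) (tS ⟨xN k, hx⟩)
      have h8 : T (act (tS ⟨xN k, hx⟩) (vec (pN k))) = T (vec k) := by
        rw [h6]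
        exact T_sim hs (iso_of (vec_iso hk))
      have h9 : tS ⟨xN k, hx⟩ * T (vec (pN k)) * (tS ⟨xN k, hx⟩)⁻¹ = T (vec k) := h7.trans h8
      rw [← h9]
      have hm : tS ⟨xN k, hx⟩ ∈ Subgroup.closure (Set.range tS) := Subgroup.subset_closure ⟨_, rfl⟩
      exact Subgroup.mul_mem _ (Subgroup.mul_mem _ hm h5) (Subgroup.inv_mem _ hm)

theorem genS : Subgroup.closure (Set.range tS) = ⊤ := by
  rw [eq_top_iff, ← closure_T, Subgroup.closure_le]
  rintro _ ⟨k, hk, rfl⟩
  exact mem_cl _ k hk rfl

theorem gen6 : Subgroup.closure (Set.range gU) = ⊤ := by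
  have h : Set.range gU = (QuotientGroup.mk' (Subgroup.center S)) '' Set.range tS := by
    rw [← Set.range_comp]; rfl
  rw [h, ← MonoidHom.map_closure, genS, ← MonoidHom.range_eq_map, MonoidHom.range_eq_top]
  exact QuotientGroup.mk'_surjective _

theorem perfS : commutator S = ⊤ := H6.SUGenC.commutator_eq_top (F := F4) (q := 2) (by rw [hK]; rfl) 6 (by norm_num) (by norm_num)

theorem perf_GP : commutator GP = ⊤ := by
  have h1 : (commutator S).map (QuotientGroup.mk' (Subgroup.center S)) = ⊤ := by
    rw [perfS, ← MonoidHom.range_eq_map, MonoidHom.range_eq_top]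
    exact QuotientGroup.mk'_surjective _
  rw [commutator_def, Subgroup.map_commutator, ← MonoidHom.range_eq_map,
    MonoidHom.range_eq_top.2 (QuotientGroup.mk'_surjective _), ← commutator_def] at h1
  exact h1

theorem card_GP : Nat.card GP = 9196830720 := H34.U62.card_psu

end H34.U6
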